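import Mathlib
import Cfsg.Agent.Spor.MB.Over
import Cfsg.Agent.Spor.MB.Fam
import Cfsg.Agent.Spor.Comp.Basic
import Cfsg.Agent.Spor.ESLarge
import Cfsg.Agent.Inv.FzBasic

/-!
Groups with a self-centralising subgroup `V` of order `2 ^ 11` and `N(V) / V = M24`: coordinates and stages
(see `stubs/Cfsg/Agent/R24/PLAN.md`). The flag `t` is `true` for the code modulo the all-one word and `false` for the
even cocode.
-/

set_option autoImplicit false

namespace Cfsg.Agent.R24

open Cfsg.Agent.Spor Cfsg.Agent.Inv.Fz Subgroup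
open Cfsg.Agent.Spor.MB hiding cj
open scoped Pointwise

/-! ### Codes -/

/-- The sets that represent the basis vectors. -/
def bm (t : Bool) (k : ℕ) : ℕ := getP 24 16777215 (Bool.rec
  (nat_lit 0x800007808000810000090000800008402000002010000006000003004025804009)
  (nat_lit 0x7dbfd0694f0d5e43962cc67a00cb25164a0312c628498b401d0a903886c06920d0) t) k

/-- The contribution of the point `i` to the coordinates of a set. -/
def lp (t : Bool) (i : ℕ) : ℕ := getP 11 2047 (Bool.rec
  (nat_lit 0x1442d8e3b300bea27100401126982e55bf89b0eec0b4764a23d2008101206408)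
  (nat_lit 0xb5efcd2800dcb7fea659a0af09b365115) t) i

/-- The linear map that sends `2 ^ k` to `m k`, `k < n`. -/
def lin (n : ℕ) (m : ℕ → ℕ) (x : ℕ) : ℕ := xorN (fun i => Nat.mul (Nat.land (Nat.shiftRight x i) 1) (m i)) n

/-- A set that represents the vector `x`. -/
def rp (t : Bool) (x : ℕ) : ℕ := lin 11 (bm t) x

/-- The vector of a set (a code word if `t`, an even set otherwise). -/
def lm (t : Bool) (m : ℕ) : ℕ := lin 24 (lp t) m

/-- The matrix (11 fields of 11 bits) of the permutation with code `c`. -/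
noncomputable def mx (t : Bool) (c : ℕ) : ℕ := Spor.force c fun c =>
  orN (fun k => Nat.shiftLeft (Spor.force (act c (bm t k)) (lm t)) (Nat.mul 11 k)) 11

/-- A matrix applied to a vector. -/
noncomputable def apm (M x : ℕ) : ℕ := Spor.force M fun M => Spor.force x fun x =>
    (Nat.xor (Nat.mul (Nat.land (Nat.shiftRight x (nat_lit 10)) (nat_lit 1)) (Nat.land (Nat.shiftRight M (nat_lit 110)) (nat_lit 2047)))
    (Nat.xor (Nat.mul (Nat.land (Nat.shiftRight x (nat_lit 9)) (nat_lit 1)) (Nat.land (Nat.shiftRight M (nat_lit 99)) (nat_lit 2047)))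
    (Nat.xor (Nat.mul (Nat.land (Nat.shiftRight x (nat_lit 8)) (nat_lit 1)) (Nat.land (Nat.shiftRight M (nat_lit 88)) (nat_lit 2047)))
    (Nat.xor (Nat.mul (Nat.land (Nat.shiftRight x (nat_lit 7)) (nat_lit 1)) (Nat.land (Nat.shiftRight M (nat_lit 77)) (nat_lit 2047)))
    (Nat.xor (Nat.mul (Nat.land (Nat.shiftRight x (nat_lit 6)) (nat_lit 1)) (Nat.land (Nat.shiftRight M (nat_lit 66)) (nat_lit 2047)))
    (Nat.xor (Nat.mul (Nat.land (Nat.shiftRight x (nat_lit 5)) (nat_lit 1)) (Nat.land (Nat.shiftRight M (nat_lit 55)) (nat_lit 2047)))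
    (Nat.xor (Nat.mul (Nat.land (Nat.shiftRight x (nat_lit 4)) (nat_lit 1)) (Nat.land (Nat.shiftRight M (nat_lit 44)) (nat_lit 2047)))
    (Nat.xor (Nat.mul (Nat.land (Nat.shiftRight x (nat_lit 3)) (nat_lit 1)) (Nat.land (Nat.shiftRight M (nat_lit 33)) (nat_lit 2047)))
    (Nat.xor (Nat.mul (Nat.land (Nat.shiftRight x (nat_lit 2)) (nat_lit 1)) (Nat.land (Nat.shiftRight M (nat_lit 22)) (nat_lit 2047)))
    (Nat.xor (Nat.mul (Nat.land (Nat.shiftRight x (nat_lit 1)) (nat_lit 1)) (Nat.land (Nat.shiftRight M (nat_lit 11)) (nat_lit 2047)))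
    (Nat.xor (Nat.mul (Nat.land (Nat.shiftRight x (nat_lit 0)) (nat_lit 1)) (Nat.land (Nat.shiftRight M (nat_lit 0)) (nat_lit 2047)))
    (nat_lit 0))))))))))))

/-- The action on vectors. In kernel checks write `Spor.force (mx t c) fun M => ... apm M x ...`. -/
noncomputable def ac (t : Bool) (c x : ℕ) : ℕ := apm (mx t c) x

/-- The elements of the group of order 16 that fixes the octad `O0` pointwise; `i < 4` gives the intersection with
the sextet group `eS`. -/
def eE (i : ℕ) : ℕ := getP 120 (nat_lit 0xffffffffffffffffffffffffffffff) (nat_lit 0xba64d4562f83a87312d362caa18820ba91094e346b9e63d8955b0a918820bd17661a2a23933ac1a7448af18820bbd8459e29b39559b606920b418820bae957b6289ba44b1cd0524ac18820bb1f3a4232ab916218ed4a8ab18820bc92655a2c3b9706cea47d0a818820ba1474922b3398d85676a3cb218820bcc8cb2a265b8f47c9096c0b518820bd6cb22627638cfa224a834b318820b9e086be3593a6952d94b10a618820b99b28523343aaa4b16f258a718820bc0ea332364b892451ebaccad18820bb4c93ae2453ac893e8c9d4b018820b926faa22da3a0b6255231cb618820bdab49ca307b9ac5a928398a418820)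 i

/-- The elements of the normal subgroup of order 64 of the stabiliser of the sextet `S0`; `i < 16` gives the intersection
with `eT`. -/
def eS (i : ℕ) : ℕ := getP 120 (nat_lit 0xffffffffffffffffffffffffffffff) (nat_lit 0x140c93b0765149243e8b9d5cd8dc01134ea32c64496c8951ecacdd08dc01112b49a06d7960b62932399d68dc0115a6fac870a15ac5a54831dc48dc010b4e9331c4546d243e8bacc70282e20c0ca3add64c488951ec9d46d282e20da74aa1d07c5ab6293231c64282e2092af9c9cda460c5a54839876282e2034f4322247bacb62932accb018457040cf3ca36a388c5a5489d4ad1845705a69ab230539b243e8b31ca418457012aa9ae2d4ba08951ec398b618457bc0d43a0b678c8b629329d62d70820bb4ef348a4a0ecc5a548ace3070820b92a99b0ad50e1243e8b39a3670820bda6aaacb048da8951ec31e24708200b6b49aca478ec89292c39a30702e20c26fab0b6a0c924254b31e2d702e20d8c93c8b050dac5be889d624702e2090ea320ad48e0b651f2ace36702e214274aae367b8889292c31cad1dc01136af9b224a3ad24254b398b01dc01110e934a2d53a0c5be88accb61dc01158ca3a2304b9ab651f29d4a41dc01bc269ac9d65448c5be8831c6d28820bb6aa9a1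c44c6cb651f23987028820b90f432dcd7c6089292cacc7628820bd8cf3b1d0a45b24254b9d46428820036a99c864516cc5be88399d0884570426aaa0764948b651f231dcd88457058d43ac70795a89292c9d5c488457010ef3306da16124254bacdd6884570b66aaca244bacc5d1e831cb0182e20c2a99a2365388b63e92398ad182e20d8ef32e30a39a89254cacca4182e2090d43b22d7ba124292b9d4b6182e2142aa9c8b648c8c5d1e839a2d75c0113669aa0a450ecb63e9231e3075c01110cf3acada0e089254c9d63675c01158f4330b078db24292bace2475c01bc2af9ac76a14889254c399cd88820bb674ab064796d24292b31dd088820b90ca3c86d4960c5d1e89d5d688820bd8e932070515ab63e92acdc4888200366faadc4a46c89254c31c7028457042b49b1d67c4924292b3986d28457058ea349d04c5ac5d1e8acc6428457010c93a1cd5460b63e929d47628457140ef321d6a448b62552acc6d2dc01134d43c9c47c6cc5a9289d4702dc011126aab1cd4c612451eb31c762dc0115aa99add0545a893e8c398642dc010b4cf3a064a16cb625529d5d0882e20c0f4348767948c5a928acdcd882e20daaa9b070495b2451eb399c4882e209269aac6d5160893e8c31dd6882e2034ca3b0a448ed2451eb9d63070457040e932cb650c8893e8cace2d7045705aaf9a0b0a0dab6255239a247045701274ac8ad78e0c5a92831e3670457bc0ea332364b892451ebaccad18820bb4c93ae2453ac893e8c9d4b018820b926faa22da3a0b6255231cb618820bdab49ca307b9ac5a928398a418820)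 i

/-- The elements of the normal subgroup of order 64 of the stabiliser of the trio `T0`. -/
def eT (i : ℕ) : ℕ := getP 120 (nat_lit 0xffffffffffffffffffffffffffffff) (nat_lit 0x8d6cf222e7a08cb62552834130b8658cc94b4ae6788ec5a9286c0150b865899aa832f348ab2451eb258070b86589e096aef550a6893e8cb10060b8652cc8fb2006a04eb625526c2f510dd12d6d424807784cc5a928836f310dd129e0a6b01548672451ebb12e610dd1299a982c13506a893e8c25ae710dd11cc8ab3026480f2451eb6c055b962e1d6c922c27500c893e8c83453b962e19e0f6a035a026b62552b1046b962e199b484833782ac5a92825847b962e756ca230474dcd2451eb83433044a374c89b2c4655ce893e8c6c035044a3719af82053a5eab6255225827044a371e146c8557de6c5a928b1026044a32b4d23d004406ca4b16f9d6f010dd12c0e833c169048952d94aceed10dd12daab9a410605afa224a39ae410dd12926caa80d586147c90931ef610dd18c0f2352f64088a4b16facc0d0b8658b4c83bee490ac952d949d4100b8658926baa6ed60a0fa224a31c160b8658daac9aaf0589b47c909398040b865740eb3245665c8fa224aacc2d044a3734cc3a8445ded47c9099d430044a371272ad04d45e0a4b16f31c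36044a375aa89bc5095da952d9439824044a31b4cb3a424602cfa224a9d450b962e1c0ec32836580947c909acc4db962e1dab29d030401aa4b16f39844b962e19268abc2d9020952d9431c56b962e0cc92b5066414ea4b16f6c1d5882e20d6c823c67914c952d94835d3882e209e0b6a4756166fa224ab11c6882e2099ac82873596b47c909259c7882e2156d2251c7444ca4b16f834732dc0114c88b3dc6944e952d946c0752dc01119ab825d3646afa224a258672dc0111e0c6a9d55c6747c909b10662dc01bd6cb22627638cfa224a834b318820bcc8cb2a265b8f47c9096c0b518820b99b28523343aaa4b16f258a718820b9e086be3593a6952d94b10a61882004c8bb24a660cefa224a6c23570457056cc228a758cd47c909836337045701e126d0b540e6a4b16fb122670457019a883cb390ea952d9425a2770457140ef321d6a448b62552acc6d2dc01134d43c9c47c6cc5a9289d4702dc011126aab1cd4c612451eb31c762dc0115aa99add0545a893e8c398642dc010b4cf3a064a16cb625529d5d0882e20c0f4348767948c5a928acdcd882e20daaa9b070495b2451eb399c4882e209269aac6d5160893e8c31dd6882e2034ca3b0a448ed2451eb9d63070457040e932cb650c8893e8cace2d7045705aaf9a0b0a0dab6255239a247045701274ac8ad78e0c5a92831e3670457bc0ea332364b892451ebaccad18820bb4c93ae2453ac893e8c9d4b018820b926faa22da3a0b6255231cb618820bdab49ca307b9ac5a928398a418820)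 i

/-- An element of order three that fixes the tetrads of `S0`; on the cocode it fixes the basis vectors `6 .. 10` and maps
`2k ↦ 2k+1 ↦ 2k, 2k+1` for `k < 3`. -/
def cw : ℕ := nat_lit 960830483097831834190455366850019393

/-- The table `e` lists an elementary abelian subgroup of order `n` of `M24`. -/
noncomputable def tabOK (e : ℕ → ℕ) (n : ℕ) : Bool :=
  band (Nat.beq (e 0) idc) (allLt n fun i => Spor.force (e i) fun a => band (inM24 a)
    (band (bor (Nat.beq i 0) (!Nat.beq a idc)) (allLt n fun j =>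
      band (blt (Nat.xor i j) n) (Nat.beq (mul a (e j)) (e (Nat.xor i j))))))

theorem tabOK_spec {e : ℕ → ℕ} {n : ℕ} (h : tabOK e n = true) : e 0 = idc ∧ ∀ i < n, inM24 (e i) = true ∧
    (e i = idc → i = 0) ∧ ∀ j < n, i ^^^ j < n ∧ mul (e i) (e j) = e (i ^^^ j) := by
  simp only [tabOK, band_iff, bor_iff, allLt_iff, Spor.force_eq, nbeq_iff, blt_iff, Bool.not_eq_true',
    Nat.xor_eq] at h
  refine ⟨h.1, fun i hi => ⟨(h.2 i hi).1, fun e' => (h.2 i hi).2.1.resolve_right fun e'' => ?_, (h.2 i hi).2.2⟩⟩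
  rw [e', Nat.beq_refl] at e''
  exact absurd e'' (by decide)

/-- The subgroup listed by a table. -/
def tabG (e : ℕ → ℕ) (n : ℕ) (h : tabOK e (n + 1) = true) : Subgroup PG where
  carrier := {g | ∃ i < n + 1, code g = e i}
  one_mem' := ⟨0, n.succ_pos, by rw [code_one, (tabOK_spec h).1]⟩
  mul_mem' := by
    rintro a b ⟨i, hi, ha⟩ ⟨j, hj, hb⟩
    exact ⟨i ^^^ j, (((tabOK_spec h).2 i hi).2.2 j hj).1, by
      rw [code_mul, ha, hb, (((tabOK_spec h).2 i hi).2.2 j hj).2]⟩
  inv_mem' := by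
    rintro a ⟨i, hi, ha⟩
    refine ⟨i, hi, ?_⟩
    rw [← ha, inv_eq_of_mul_eq_one_left (a := a) (b := a) (code_injective (by
      rw [code_mul, ha, (((tabOK_spec h).2 i hi).2.2 i hi).2, Nat.xor_self, (tabOK_spec h).1, code_one]))]

theorem okE : tabOK eE 16 = true := by decide +kernel
theorem okS : tabOK eS 64 = true := by decide +kernel
theorem okT : tabOK eT 64 = true := by decide +kernel

/-- The octad group of order 16. -/
def EE : Subgroup PG := tabG eE 15 okE
/-- The sextet group of order 64. -/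
def ES : Subgroup PG := tabG eS 63 okS
/-- The trio group of order 64. -/
def ET : Subgroup PG := tabG eT 63 okT
/-- A Sylow 2-subgroup of `M24`; it fixes `O0`, `S0`, `T0`. -/
def P2 : Subgroup PG := clo gP2
/-- The stabiliser of the vector `1024`. -/
def SY (t : Bool) : Subgroup PG := Bool.rec (M24 ⊓ MulAction.stabilizer PG S0) (M24 ⊓ MulAction.stabilizer PG O0) t
/-- Its largest normal 2-subgroup. -/
def EX (t : Bool) : Subgroup PG := Bool.rec ES EE t
/-- The mask of `W`: `x` lies in `W` iff `x &&& wm t = 0`. -/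
def wm (t : Bool) : ℕ := Bool.rec 960 1008 t

/-- The sets that represent vectors. -/
def Dom (t : Bool) (s : Finset GolayPt) : Prop := Bool.rec (Even s.card) (s ∈ CW) t
/-- The sets that represent zero. -/
def Ker (t : Bool) (s : Finset GolayPt) : Prop := Bool.rec (s ∈ CW) (s = ∅ ∨ s = Finset.univ) t
/-- The cocode vector, modulo `W`, of a duad that meets the tetrads `i` and `j` of `S0`. -/
def uc (i j : Fin 6) : ℕ := ![0, 256, 64, 384, 512, 704] i ^^^ ![0, 256, 64, 384, 512, 704] j

/-! ### The frame -/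

/-- `V` with coordinates, and the action of its normaliser. -/
structure Fr (t : Bool) (G : Type*) [Group G] where
  V : Subgroup G
  σ : normalizer (V : Set G) →* PG
  e : ℕ → G
  xor : ∀ a < 2048, ∀ b < 2048, e (a ^^^ b) = e a * e b
  inj : ∀ a < 2048, e a = 1 → a = 0
  mem : ∀ x, x ∈ V ↔ ∃ a < 2048, e a = x
  range : σ.range = M24
  ker : ∀ n, σ n = 1 ↔ (n : G) ∈ V
  act : ∀ n : normalizer (V : Set G), ∀ a < 2048, n * e a * (n : G)⁻¹ = e (ac t (code (σ n)) a)
  cent : centralizer (V : Set G) ≤ V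

variable {G : Type*} [Group G]

/-- The hypothesis before the choice of coordinates. -/
structure Md (V : Subgroup G) (σ : normalizer (V : Set G) →* PG) : Prop where
  sq : ∀ a ∈ V, a * a = 1
  card : Nat.card V = 2 ^ 11
  cent : centralizer (V : Set G) ≤ V
  range : σ.range = M24
  ker : ∀ n, σ n = 1 ↔ (n : G) ∈ V

/-- The stabiliser of `u` in `M24`. -/
def Sb {V : Subgroup G} (σ : normalizer (V : Set G) →* PG) (u : G) : Subgroup PG :=
  ((centralizer {u}).subgroupOf (normalizer (V : Set G))).map σ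

/-- No non-trivial normal subgroup of odd order in the centraliser of `s`. -/
def NoOdd (s : G) : Prop := ∀ O : Subgroup G, O ≤ centralizer {s} → centralizer {s} ≤ normalizer (O : Set G) →
  Odd (Nat.card O) → O = ⊥

/-- `V` is weakly closed in its normaliser with respect to `H`. -/
def Wc (H V : Subgroup G) : Prop := ∀ g ∈ H, cj g V ≤ normalizer (V : Set G) → cj g V = V

/-- One half of the conclusion of the pair lemma. -/
structure Pr (V U : Subgroup G) : Prop where
  card : Nat.card ↥(V ⊓ normalizer (U : Set G)) = Nat.card ↥(U ⊓ normalizer (V : Set G))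
  b0 : ∃ b ∈ U ⊓ normalizer (V : Set G), b ∉ V ∧ ∀ u ∈ V, u * b * u⁻¹ * b⁻¹ ∈ U → u ∈ normalizer (U : Set G)
  inj : ∃ a ∈ V, ∀ b ∈ U ⊓ normalizer (V : Set G), a * b * a⁻¹ * b⁻¹ ∈ U → b ∈ V

namespace Fr

variable {t : Bool} (F : Fr t G)

/-- The normaliser of `V`. -/
abbrev N : Subgroup G := normalizer (F.V : Set G)
/-- The central involution. -/
def s : G := F.e 1024
/-- Its centraliser. -/
abbrev C : Subgroup G := centralizer {F.s}
/-- `g` normalises `V` and has the image with code `c` in `M24`. -/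
def Ic (g : G) (c : ℕ) : Prop := ∃ h : g ∈ F.N, code (F.σ ⟨g, h⟩) = c
/-- The preimage of a subgroup of `M24`. -/
def pre (H : Subgroup PG) : Subgroup G := (H.comap F.σ).map F.N.subtype
/-- The vectors `x` with `x &&& m = 0`. -/
def sub (m : ℕ) : Subgroup G := closure {g | ∃ a < 2048, a &&& m = 0 ∧ F.e a = g}
/-- A Sylow 2-subgroup of the normaliser. -/
def T : Subgroup G := F.pre P2
/-- The centraliser of `s` in the normaliser. -/
def Y : Subgroup G := F.C ⊓ F.N
/-- Its largest normal 2-subgroup. -/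
def X : Subgroup G := F.pre (EX t)
/-- The intersection of `V` with the extraspecial group. -/
def W : Subgroup G := F.sub (wm t)

/-- The extraspecial group, seen in the normaliser of `V`. -/
structure Ex (Q : Subgroup G) : Prop where
  es : ES2 Q F.s
  le : Q ≤ F.X
  inf : Q ⊓ F.V = F.W
  sup : ∀ g ∈ F.X, ∃ q ∈ Q, ∃ v ∈ F.V, g = q * v
  norm : F.Y ≤ normalizer (Q : Set G)

/-- The extraspecial group is large. -/
structure Lx (Q : Subgroup G) : Prop where
  ex : F.Ex Q
  wc : Wc ⊤ F.V
  lg : Lg Q F.s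
  cW : centralizer (F.W : Set G) ≤ F.V
  nW : normalizer (F.W : Set G) ≤ F.N

end Fr

/-- The code case: a conjugate of `V` in standard position. -/
structure Std (F : Fr true G) (c : G) : Prop where
  cs : c ∈ F.C
  inf : F.V ⊓ cj c F.V = F.sub 1004
  v0 : F.V ⊓ normalizer (cj c F.V : Set G) = F.sub 128
  le : cj c F.V ⊓ F.N ≤ F.pre ES
  lift : ∀ i < 64, ∃ b ∈ cj c F.V, F.Ic b (eS i)

/-- The cocode case: the extraspecial group and the element `x` of order three over `cw`. -/
structure Oq (F : Fr false G) (Q : Subgroup G) (x : G) : Prop where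
  ex : F.Ex Q
  ic : F.Ic x cw
  x3 : x ^ 3 = 1

/-- The action of `Y` on the six tetrads. -/
structure Tau (F : Fr false G) (x : G) (τ : F.Y →* Equiv.Perm (Fin 6)) : Prop where
  surj : Function.Surjective τ
  ker : ∀ y, τ y = 1 ↔ (y : G) ∈ F.X ⊔ zpowers x
  act : ∀ y : F.Y, ∀ i j, y * F.e (uc i j) * (y : G)⁻¹ * F.e (uc (τ y i) (τ y j)) ∈ F.W
  even : ∀ y : F.Y, Equiv.Perm.sign (τ y) = 1 → y * x * (y : G)⁻¹ * x⁻¹ ∈ F.X
  odd : ∀ y : F.Y, Equiv.Perm.sign (τ y) = -1 → y * x * (y : G)⁻¹ * x ∈ F.X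

/-- The cocode case: `Q` is large and `W` meets a different conjugate outside `⟨s⟩`. -/
structure Om (F : Fr false G) (Q : Subgroup G) (x : G) : Prop where
  oq : Oq F Q x
  lx : F.Lx Q
  ne : ∃ c ∈ F.C, c ∉ F.N ∧ ∃ w ∈ F.W, w ≠ 1 ∧ w ≠ F.s ∧ w ∈ cj c F.W

/-- The group `⟨Q, x⟩` is normal in the centraliser of `s`. -/
structure On (F : Fr false G) (Q : Subgroup G) (x : G) : Prop where
  om : Om F Q x
  nx : ∀ c ∈ F.C, c * x * c⁻¹ * x⁻¹ ∈ Q ∨ c * x * c⁻¹ * x ∈ Q

/-- The elements of `H` that normalise `Q` and centralise `x` modulo `Q`. -/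
def cm (H Q : Subgroup G) (x : G) : Subgroup G where
  carrier := {c | c ∈ H ∧ c ∈ normalizer (Q : Set G) ∧ c * x * c⁻¹ * x⁻¹ ∈ Q}
  one_mem' := ⟨one_mem _, one_mem _, by simp [one_mem]⟩
  mul_mem' := fun {a b} ha hb => ⟨mul_mem ha.1 hb.1, mul_mem ha.2.1 hb.2.1, by
    have h := mul_mem ((mem_normalizer_iff.1 ha.2.1 _).1 hb.2.2) ha.2.2
    convert h using 1; group⟩
  inv_mem' := fun {a} ha => ⟨inv_mem ha.1, inv_mem ha.2.1, by
    have h := (mem_normalizer_iff.1 (inv_mem ha.2.1) _).1 (inv_mem ha.2.2)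
    convert h using 1; group⟩

theorem mem_cm {H Q : Subgroup G} {x c : G} :
    c ∈ cm H Q x ↔ c ∈ H ∧ c ∈ normalizer (Q : Set G) ∧ c * x * c⁻¹ * x⁻¹ ∈ Q := Iff.rfl

/-- The conjugates of `W` under the centraliser of `s`. -/
def Fr.Sg {t : Bool} (F : Fr t G) : Set (Subgroup G) := {U | ∃ c ∈ F.C, U = cj c F.W}

end Cfsg.Agent.R24
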