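import Mathlib
import Cfsg.Agent.R24.Frm
import Cfsg.Agent.Spor.MB.Cent

/-! Local facts on the subgroups `Y`, `X`, `W` of the frame: kernel checks on the stabiliser of the vector `1024` and
on its largest normal 2-subgroup. -/

set_option autoImplicit false
set_option linter.unusedSectionVars false

namespace Cfsg.Agent.R24

open Cfsg.Agent.Spor Cfsg.Agent.Inv.Fz Subgroup
open Cfsg.Agent.Spor.MB hiding cj
open scoped Pointwise

/-- The vectors in the orbit of `1024` (octads, sextets). -/
def st (t : Bool) (a : ℕ) : Bool := Nat.beq (Nat.land (Nat.shiftRight (Bool.rec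
  (nat_lit 0x7fdf7bfffbdf7bdef7fdffb7dffbffffef7fbefffdefd7bef7feffbedffeffffbfbbddfdf777fffedfe7e7fbfebdfffef7ffffbfdfffbd7ff7ffffbfdfffeeeffffdfff7fffbbd7ffffdfff7fffbeeeffffefffefffebd7ffffefffefffeeeeffcffff6faffffff0fffcfff6fffaffffffffffffffffac6ff3fcff965ffaac6ffbfeffde7ffeffffbfefedfffe7f7bdefbfdffd77ffbffffdfbfd7fff7bfd7befbffffdf7fffeeeffbffffdf7fffbd7fefdb7efdfbe7fffe7f77bbfbfdddfffe7ebfdbefe7dffffedddf777fbbbffffebd7fbd7fbd7ffffeeeefeeefeeeffffef3ffff9f5ffffffffff3fff9fff5fff0ffffffffffff5390f3fcff965ffaac6e)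
  (nat_lit 0xbdd48118812442e882144e28722841140690066009acf65cc9a039a00a5005502148e28412482e8422b41188dd7811449a0c65fc9ac09a3069006600a500550018242b18e81824241428d7e428d81414a360ac60609090905f9ca06c50a0505084b848847b744848b488884487884444c00330030c03030300c30033000fffff422b81188124bd178214b1d78dd7411406900660f65309a3365fc65f0a50055021481d7b1248d17bdd4b11882287114465f39a03653f65cf69006600a50055001824d4e717e724241428281bd72714145c9f539f60909090a0635f9350a050507b474884848b48484b77884478774444c00330030c03030300c30033000ffffe)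
  t) a) 1) 1

theorem le_SY {t : Bool} {K : Subgroup PG} (h : Gens K (Bool.rec gS0 gO0 t)) : SY t ≤ K := by
  cases t
  · exact le_of_bsgs ptD (gens_gS0.slpL 52 0xff33ff33ff2cff23ff1fff1dff18ff1bff13ff09ff02ff000006110014000f0012000d0010070b000e000d00080007000a00050008000307020001000400040003000200000103030a00090000080c000c000a000900080008000700050604000300030001000100)
      (Gens.slpL _ _ h) [(0, 23, 0x19111111111112111211111), (1, 2, 0x11), (2, 1, 0x1),
        (3, 19, 0x11c7114211211211211), (4, 16, 0x3112011411311211), (5, 2, 0x11)] 138240 (by decide +kernel)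
      card_SY_false.le
  · exact le_of_bsgs ptD (gens_gO0.slpL 53 0xff34ff34ff2eff2bff25ff28ff21ff1cff18ff13ff10ff11ff0dff0aff09ff05ff01ff080a000600080807000600000504000701060608000b0b060009000800070306000500000009000400030006060500040006000500040001000200050004020300030001000001)
      (Gens.slpL _ _ h) [(0, 7, 0x2111111), (1, 6, 0x311131), (2, 5, 0x11121), (3, 4, 0x1111), (5, 3, 0x121),
        (14, 2, 0x11), (4, 15, 0x121412151214121)] 322560 (by decide +kernel) card_SY_true.le

namespace Loc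

variable {t : Bool}

/-- The table of `EX t`. -/
def ex (t : Bool) : ℕ → ℕ := Bool.rec eS eE t
/-- The order of `EX t`. -/
def nx (t : Bool) : ℕ := Bool.rec 64 16 t
/-- The generators of `SY t`. -/
def gy (t : Bool) : List ℕ := Bool.rec gS0 gO0 t

theorem mem_EX {p : PG} : p ∈ EX t ↔ ∃ i < nx t, code p = ex t i := by cases t <;> exact Iff.rfl
theorem ex_zero (t : Bool) : ex t 0 = idc := by cases t; exacts [(tabOK_spec okS).1, (tabOK_spec okE).1]
theorem in_ex {i : ℕ} (hi : i < nx t) : inM24 (ex t i) = true := by cases t; exacts [in_eS hi, in_eE hi]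
theorem card_EX (t : Bool) : Nat.card (EX t) = nx t := by cases t; exacts [card_ES, card_EE]
theorem gens_gy (t : Bool) : Gens (SY t) (gy t) := by cases t; exacts [gens_gS0, gens_gO0]
theorem nx_pos (t : Bool) : 0 < nx t := by cases t <;> decide

theorem EX_le_P2 (t : Bool) : EX t ≤ P2 := fun p hp => by
  have h : ∀ t, allLt (nx t) (fun i => Spor.force (ex t i) (memL P2L)) = true := by decide +kernel
  obtain ⟨i, hi, e⟩ := mem_EX.1 hp
  have h1 := (allLt_iff _ _).1 (h t) i hi
  rw [feq, ← e, memL_iff] at h1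
  exact Gens.mem (gens_gP2.clo.walk _ _) h1

theorem SY_le_norm (t : Bool) : SY t ≤ normalizer (EX t : Set PG) := le_SY fun c hc => by
  have h : ∀ t, MB.allL (fun c => allLt (nx t) fun i => Spor.force (MB.cj c (ex t i)) fun d =>
    anyN (fun j => Nat.beq d (ex t j)) (nx t)) (gy t) = true := by decide +kernel
  obtain ⟨g, -, rfl⟩ := gens_gy t c hc
  refine ⟨g, mem_normalizer_fintype fun p hp => ?_, rfl⟩
  obtain ⟨i, hi, e⟩ := mem_EX.1 hp
  have h1 := (allLt_iff _ _).1 (MB.allL_iff.1 (h t) _ hc) i hi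
  rw [feq, anyN_iff, ← e, ← code_conj] at h1
  exact mem_EX.2 (h1.imp fun j hj => ⟨hj.1, (nbeq_iff _ _).1 hj.2⟩)

theorem gy_W {c a : ℕ} (hc : c ∈ gy t) (ha : a < 2048) (h : a &&& wm t = 0) : ac t c a &&& wm t = 0 := by
  have k : ∀ t, MB.allL (fun c => Spor.force (mx t c) fun M => allRange 0 2048 fun a =>
    bor (!Nat.beq (Nat.land a (wm t)) 0) (Nat.beq (Nat.land (apm M a) (wm t)) 0)) (gy t) = true := by decide +kernel
  have h1 := MB.allL_iff.1 (k t) _ hc
  rw [feq] at h1
  have h2 := allRange_zero h1 a ha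
  rw [ac_def, bor_iff, nbeq_iff, Nat.land_eq, h] at h2
  exact h2.resolve_left (by decide)

/-! ### Counting cosets -/

theorem ncard_mul_le {H K : Subgroup PG} (hK : K ≤ H) (f : PG → ℕ) (hf : ∀ g ∈ H, ∀ k ∈ K, f (g * k) = f g) :
    (f '' H).ncard * Nat.card K ≤ Nat.card H := by
  rw [← card_mul_relIndex hK, mul_comm]
  refine Nat.mul_le_mul_left _ ?_
  let φ : H ⧸ K.subgroupOf H → ℕ := Quotient.lift (fun g => f g) fun a b e => by
    have := hf a a.2 _ (mem_subgroupOf.1 (QuotientGroup.leftRel_apply.1 e))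
    simpa using this.symm
  have h1 : f '' H = Set.range φ := Set.ext fun x =>
    ⟨fun ⟨g, hg, e⟩ => ⟨(⟨g, hg⟩ : H), e⟩, fun ⟨q, e⟩ => by
      obtain ⟨g, rfl⟩ := QuotientGroup.mk_surjective q
      exact ⟨g, g.2, e⟩⟩
  rw [h1, ← Nat.card_coe_set_eq]
  exact Finite.card_range_le φ

/-- The action on a single vector. -/
noncomputable def av (t : Bool) (c x : ℕ) : ℕ := Spor.force (rp t x) fun r => Spor.force (act c r) (lm t)

theorem av_eq (t : Bool) (g : PG) (x : ℕ) : av t (code g) x = ac t (code g) x := by rw [av, feq, feq, ac_eq]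

/-- The mask of a list. -/
noncomputable def msk (l : List ℕ) : ℕ := List.rec 0 (fun x _ ih => Nat.lor (Nat.shiftLeft 1 x) ih) l

theorem msk_iff {l : List ℕ} {a : ℕ} : Nat.beq (Nat.land (Nat.shiftRight (msk l) a) 1) 1 = true ↔ a ∈ l := by
  have h : (msk l).testBit a = true ↔ a ∈ l := by
    induction l with
    | nil => simp [msk]
    | cons x l ih =>
      have e : msk (x :: l) = Nat.lor (Nat.shiftLeft 1 x) (msk l) := rfl
      rw [e, Nat.lor_eq, Nat.testBit_or, Bool.or_eq_true, Nat.shiftLeft_eq', Nat.one_shiftLeft,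
        Nat.testBit_two_pow, decide_eq_true_iff, ih, List.mem_cons, eq_comm]
  rw [land_shiftRight_one, nbeq_iff, ← h]; split_ifs with h <;> simp [h]

theorem st_iff {a : ℕ} (ha : a < 2048) : (∃ p ∈ M24, ac t (code p) 1024 = a) ↔ st t a = true := by
  have k : ∀ t, Spor.force (msk (walk (av t) gM24 1024 (Bool.rec 1891 797 t) (Bool.rec
      (nat_lit 0x1111111111111111111111200011111111111111111111113001111111111111111111111300000011111111111111111111113000000000000000000000000000000000000000001111111111111111111111200111111111111111111111130000000000000011111111111111111111112111111111111111111111130000000000001111111111111111111111201111111111111111111111300000011111111111111111111113000001111111111111111111111301111111111111111111111300000111111111111111111111130011111111111111111111113011111111111111111111113000011111111111111111111112000111111111111111111111121111111111111111111111211111111111111111111113001111111111111111111111211111111111111111111113111111111111111111111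131111111111111111111111311111111111111111111112001111111111111111111111311111111111111111111112111111111111111111111121111111111111111111111311111111111111111111113111111111111111111111120111111111111111111111130011111111111111111111112111111111111111111111131111111111111111111111211111111111111111111113111111111111111111111120011111111111111111111113111111111111111111111121111111111111111111111301111111111111111111111311111111111111111111112011111111111111111111113111111111111111111111121111111111111111111111311111111111111111111112111111111111111111111121111111111111111111111311111111111111111111112111111111111111111111121111111111111111111111311111111111111111111112011111111111111111111113111111111111111111111121111111111111111111111211111111111111111111113111111111111111111111121111111111111111111111311111111111111111111112111111111111111111111121111111111111111111111311111111111111111111112011111111111111111111112111111111111111111111121111111111111111111111311111111111111111111112111111111111111111111121111111111111111111111311111111111111111111112111111111111111111111121111111111111111111111311111111111111111111112111111111111111111111121111111111111111111111311111111111111111111112111111111111111111111131111111111111111111111)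
      (nat_lit 0x11111111111111111111112011111111111111111111112000000000001111111111111111111111300000011111111111111111111112001111111111111111111111301111111111111111111111201111111111111111111111300000000011111111111111111111112001111111111111111111111201111111111111111111111211111111111111111111112111111111111111111111131111111111111111111111201111111111111111111111211111111111111111111112111111111111111111111130111111111111111111111120111111111111111111111120111111111111111111111121111111111111111111111311111111111111111111113111111111111111111111121111111111111111111111311111111111111111111112011111111111111111111112111111111111111111111121111111111111111111111311111111111111111111112111111111111111111111121111111111111111111111311111111111111111111112111111111111111111111121111111111111111111111)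
      t))) (fun M => allRange 0 2048 fun a => bor (!st t a) (Nat.beq (Nat.land (Nat.shiftRight M a) 1) 1)) = true := by
    decide +kernel
  have h1 : {a | a < 2048 ∧ st t a = true} ⊆ (fun p => ac t (code p) 1024) '' M24 := fun a ha => by
    have h2 := k t
    rw [feq] at h2
    have h3 := allRange_zero h2 a ha.1
    rw [ha.2, bor_iff, msk_iff] at h3
    refine walk_spec (P := fun x => x ∈ (fun p => ac t (code p) 1024) '' M24) ?_
      ⟨1, one_mem _, (congrArg (ac t · 1024) code_one).trans (ac_idc t (by decide))⟩ _ _ a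
      (h3.resolve_left (by decide))
    rintro c hc _ ⟨p, hp, rfl⟩
    obtain ⟨g, hg, rfl⟩ := gens_gM24.or_idc hc
    exact ⟨g * p, mul_mem hg hp, by rw [av_eq]; exact ac_mul hg hp (by decide)⟩
  have h2 := ncard_mul_le (SY_le t) (fun p => ac t (code p) 1024) fun g hg k hk => by
    rw [ac_mul hg (SY_le t hk) (by decide), (mem_SY.1 hk).2]
  have h3 := Set.eq_of_subset_of_ncard_le h1 (by
    rw [ncard_lt _ (st t) fun _ _ => Iff.rfl]
    have h4 : ∀ t, cnt (st t) = Bool.rec 1771 759 t := by decide +kernel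
    rw [card_M24] at h2
    rw [h4]
    generalize Set.ncard _ = n at h2 ⊢
    cases t
    · rw [card_SY_false] at h2; change n ≤ 1771; omega
    · rw [card_SY_true] at h2; change n ≤ 759; omega) (Set.toFinite _)
  exact ⟨fun h => (h3.ge h).2, fun h => h1 ⟨ha, h⟩⟩

/-! ### The kernel of the action on `W` modulo `1024` -/

theorem ac_mod {p : PG} (hp : p ∈ SY t) {a b : ℕ} (ha : a < 2048) (hb : b < 2048) (e : a % 1024 = b % 1024) :
    ac t (code p) a % 1024 = ac t (code p) b % 1024 := by
  have h1 : ∀ x < 2048, x ^^^ 1024 = (x + 1024) % 2048 := by decide +kernel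
  by_cases h : a = b
  · rw [h]
  · rw [show a = b ^^^ 1024 by rw [h1 b hb]; omega, ac_xor, (mem_SY.1 hp).2, h1 _ (ac_lt _ _ _)]; omega

/-- The elements that fix the vectors of the list modulo `1024`. -/
def Kx (t : Bool) (l : List ℕ) : Subgroup PG where
  carrier := {p | p ∈ SY t ∧ ∀ a ∈ l, a < 2048 → ac t (code p) a % 1024 = a % 1024}
  one_mem' := ⟨one_mem _, fun a _ ha => by rw [code_one, ac_idc t ha]⟩
  mul_mem' := fun {p q} hp hq => ⟨mul_mem hp.1 hq.1, fun a h ha => by
    rw [ac_mul (SY_le t hp.1) (SY_le t hq.1) ha, ac_mod hp.1 (ac_lt _ _ _) ha (hq.2 a h ha), hp.2 a h ha]⟩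
  inv_mem' := fun {p} hp => ⟨inv_mem hp.1, fun a h ha => by
    rw [← ac_mod (inv_mem hp.1) (ac_lt _ _ _) ha (hp.2 a h ha),
      ← ac_mul (SY_le t (inv_mem hp.1)) (SY_le t hp.1) ha, inv_mul_cancel, code_one, ac_idc t ha]⟩

theorem step (t : Bool) (l : List ℕ) (a : ℕ) (gs : List ℕ) (n fuel cert : ℕ)
    (h : band (blt a 2048) (band (MB.allL (fun c => Bool.and (inM24 c) (band (Nat.beq (av t c 1024) 1024)
      (MB.allL (fun b => Nat.beq (av t c b % 1024) (b % 1024)) l))) gs)
      (distinct (fun c => av t c a % 1024) n (walk mul gs idc fuel cert))) = true) :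
    n * Nat.card (Kx t (a :: l)) ≤ Nat.card (Kx t l) := by
  rw [band_iff, band_iff, blt_iff] at h
  have hg : Gens (Kx t l) gs := gens_of_check _ (fun g hg h => by
    rw [band_iff, MB.allL_iff, nbeq_iff, av_eq] at h
    exact ⟨mem_SY.2 ⟨hg, h.1⟩, fun b hb _ => by rw [← av_eq]; exact (nbeq_iff _ _).1 (h.2 b hb)⟩) h.2.1
  refine (Nat.mul_le_mul_right _ ?_).trans (ncard_mul_le (H := Kx t l) (K := Kx t (a :: l))
    (fun p hp => ⟨hp.1, fun b hb => hp.2 b (List.mem_cons_of_mem _ hb)⟩) (fun p => av t (code p) a % 1024)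
    fun g hg k hk => ?_)
  · refine le_ncard_of_codes (R := fun m x => av t m a % 1024 = x) (Set.toFinite _)
      (fun _ _ _ e e' => e.trans e'.symm) (fun m hm => ?_) h.2.2
    obtain ⟨g, hg, rfl⟩ := hg.walk _ _ m hm
    exact ⟨_, ⟨g, hg, rfl⟩, rfl⟩
  · rw [av_eq, av_eq, ac_mul (SY_le t hg.1) (SY_le t hk.1) h.1]
    exact ac_mod hg.1 (ac_lt _ _ _) h.1 (hk.2 a List.mem_cons_self h.1)

theorem card_Kx (t : Bool) : Nat.card (Kx t (Bool.rec [8, 32, 2] [1, 2, 4, 8] t)) ≤ nx t := by
  have h0 : Nat.card (Kx t []) ≤ Nat.card (SY t) := card_le_of_le fun _ h => h.1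
  cases t
  · have h1 := step false [] 2 [914439474130851927976055103921951152, 721741985234228476612854643969068485]
      45 44 0x11111111111211111211211111111111211111111111 (by decide +kernel)
    have h2 := step false [2] 32 [625087955709409952640805856548049194, 144840834980254026743596925262534190]
      12 11 0x11111211111 (by decide +kernel)
    have h3 := step false [32, 2] 8 [527268164448899452669993859745817163, 727703277344398215988238632728148069]
      4 3 0x121 (by decide +kernel)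
    rw [card_SY_false] at h0
    change Nat.card (Kx false [8, 32, 2]) ≤ 64
    omega
  · have h1 := step true [] 8 [49663641925556459811141412826668581] 15 14 0x11111111111111 (by decide +kernel)
    have h2 := step true [8] 4 [46984493446492154458409132891027554, 135860824566023783956814187953554976]
      14 13 0x1122112112211 (by decide +kernel)
    have h3 := step true [4, 8] 2 [152224093473125035518092106707534853, 968699469891520767372817022873338321]
      12 11 0x11121211121 (by decide +kernel)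
    have h4 := step true [2, 4, 8] 1 [593965637673682574815064709038380033, 70527766620555296430512484376448750,
      234313059408340122100037937701861923] 8 7 0x1213121 (by decide +kernel)
    rw [card_SY_true] at h0
    change Nat.card (Kx true [1, 2, 4, 8]) ≤ 16
    omega

/-! ### The action of `EX t` -/

/-- Vectors whose commutators with the element number `i` are distinct. -/
def wt (t : Bool) (i x : ℕ) : ℕ := lin 4 (fun j => getP 11 2047 (Bool.rec
  (nat_lit 0x20020020002200200200022002002000220020020002200200200022002002000220020020002200200200022002002000220020020002400200200024002002000220020020002200200200024002002000240020020002200200200012002002000120020020001200200200012002002000140020020001200200200014002002000120020020001400200200012002002000140020020001200200200012002002000120020020001200200200012002002000140020020001400200200012002002000120020020001200200200012002002000120020020001400200200012002002000120020020001400200200012002002000120020020001200200200012002002000120020020008400400200082002002000840040020008200200200044004002000440040020004200200200042002002000420020020004400400200044004002000440040040020400400400104004004001000000000000)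
  (nat_lit 0x8008008001080080080010800800800108008008001080080080010800800800108008008001080080080014002000800220020008002200200080024004000800240020010004200200200082002001000400000000000)
  t) (Nat.add (Nat.mul 4 i) j)) x

theorem wt_lt (t : Bool) (i x : ℕ) : wt t i x < 2048 := lin_lt (k := 11) (fun _ => getP_lt _ _) 4 x

theorem chk1 : ∀ t, allLt (nx t) (fun i => Spor.force (mx t (ex t i)) fun M =>
    band (allRange 0 2048 fun a => Spor.force (Nat.xor (apm M a) a) fun b => band (Nat.beq (Nat.land b (wm t)) 0)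
      (bor (!Nat.beq (Nat.land a (wm t)) 0) (Nat.beq (Nat.land b 1023) 0)))
    (bor (Nat.beq i 0) (band (anyN (fun k => band (Nat.beq (Nat.land (2 ^ k) (wm t)) 0)
        (!Nat.beq (apm M (2 ^ k)) (2 ^ k))) 11)
      (band (Nat.beq (Nat.xor (apm M (wt t i 1)) (wt t i 1)) 1024)
        (distinct (fun x => Nat.xor (apm M (wt t i x)) (wt t i x)) 16 (List.range 16)))))) = true := by
  decide +kernel

theorem ex_comm {i a : ℕ} (hi : i < nx t) (ha : a < 2048) : (ac t (ex t i) a ^^^ a) &&& wm t = 0 ∧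
    (a &&& wm t = 0 → (ac t (ex t i) a ^^^ a) &&& 1023 = 0) := by
  have h1 := (allLt_iff _ _).1 (chk1 t) i hi
  rw [feq, band_iff] at h1
  have h2 := allRange_zero h1.1 a ha
  rw [feq, band_iff, bor_iff, nbeq_iff, nbeq_iff, ac_def] at h2
  exact ⟨h2.1, fun e => h2.2.resolve_left (by rw [Nat.land_eq, e]; decide)⟩

theorem ex_ne {i : ℕ} (hi : i < nx t) (h0 : i ≠ 0) : (∃ a < 2048, a &&& wm t = 0 ∧ ac t (ex t i) a ≠ a) ∧
    ac t (ex t i) (wt t i 1) ^^^ wt t i 1 = 1024 ∧
    distinct (fun x => ac t (ex t i) (wt t i x) ^^^ wt t i x) 16 (List.range 16) = true := by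
  have h1 := (allLt_iff _ _).1 (chk1 t) i hi
  rw [feq, band_iff, bor_iff, nbeq_iff, band_iff, band_iff, anyN_iff, nbeq_iff] at h1
  obtain ⟨⟨k, hk, h2⟩, h3⟩ := h1.2.resolve_left h0
  rw [band_iff, nbeq_iff, ac_def] at h2
  refine ⟨⟨2 ^ k, Nat.pow_lt_pow_right (n := 11) (by decide) hk, h2.1, fun e => ?_⟩, h3⟩
  rw [e, Nat.beq_refl] at h2
  exact absurd h2.2 (by decide)

theorem ex_fix {a : ℕ} (ha : a < 2048) :
    ((∀ i < nx t, (ac t (ex t i) a ^^^ a) &&& 1023 = 0) → a &&& wm t = 0) ∧
    ((∀ i < nx t, ac t (ex t i) a = a) → a &&& 1023 = 0) := by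
  have k : ∀ t, allRange 0 2048 (fun a => band (bor (Nat.beq (Nat.land a (wm t)) 0) (anyN (fun k =>
      !Nat.beq (Nat.land (Nat.xor (ac t (ex t (2 ^ k % nx t)) a) a) 1023) 0) 6)) (bor (Nat.beq (Nat.land a 1023) 0)
      (anyN (fun k => !Nat.beq (ac t (ex t (2 ^ k % nx t)) a) a) 6))) = true := by decide +kernel
  have h1 := allRange_zero (k t) a ha
  rw [band_iff, bor_iff, bor_iff, nbeq_iff, nbeq_iff, anyN_iff, anyN_iff] at h1
  refine ⟨fun h => h1.1.resolve_right fun ⟨k, _, e⟩ => ?_, fun h => h1.2.resolve_right fun ⟨k, _, e⟩ => ?_⟩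
  · rw [Nat.land_eq, Nat.xor_eq, h _ (Nat.mod_lt _ (nx_pos t))] at e
    exact absurd e (by decide)
  · rw [h _ (Nat.mod_lt _ (nx_pos t)), Nat.beq_refl] at e
    exact absurd e (by decide)

theorem mem_EX_of {p : PG} (hp : p ∈ SY t) (h : ∀ a < 2048, a &&& wm t = 0 → (ac t (code p) a ^^^ a) &&& 1023 = 0) :
    p ∈ EX t := by
  have k : ∀ q ∈ SY t, (∀ a < 2048, a &&& wm t = 0 → (ac t (code q) a ^^^ a) &&& 1023 = 0) →
      q ∈ Kx t (Bool.rec [8, 32, 2] [1, 2, 4, 8] t) := fun q hq h => ⟨hq, fun a hl ha => by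
    have h1 := h a ha (by revert a; cases t <;> decide)
    rw [Nat.and_xor_distrib_right, show (1023 : ℕ) = 2 ^ 10 - 1 from rfl, Nat.and_two_pow_sub_one_eq_mod,
      Nat.and_two_pow_sub_one_eq_mod] at h1
    exact eq_of_xor h1⟩
  have h1 : EX t ≤ Kx t (Bool.rec [8, 32, 2] [1, 2, 4, 8] t) := fun q hq =>
    k q ((EX_le_P2 t).trans (P2_le_SY t) hq) fun a ha => by
      obtain ⟨i, hi, e⟩ := mem_EX.1 hq
      rw [e]; exact (ex_comm hi ha).2
  rw [eq_of_le_of_card_ge h1 (card_EX t ▸ card_Kx t)]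
  exact k p hp h

/-! ### The involution `zA` -/

/-- An element of order seven that commutes with `zA`. -/
def rho : ℕ := nat_lit 108081565785557396148058731357607031

theorem zA_h1 {u a : ℕ} (hu : u < 2048) (ha : a < 2048) (h1 : ac t (code zA) u = u)
    (h2 : ac t rho u ^^^ u = ac t (code zA) a ^^^ a) : ∃ b < 2048, ac t (code zA) b ^^^ b = u := by
  have k : ∀ t, Spor.force (mx t 972512676110088067912772961567868960) (fun M => Spor.force (mx t rho) fun R =>
      Spor.force (msk ((List.range 2048).map fun a => Nat.xor (apm M a) a)) fun I => allRange 0 2048 fun u =>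
        bor (!Nat.beq (apm M u) u) (bor (!Nat.beq (Nat.land (Nat.shiftRight I (Nat.xor (apm R u) u)) 1) 1)
          (Nat.beq (Nat.land (Nat.shiftRight I u) 1) 1))) = true := by decide +kernel
  have h3 := k t
  rw [feq, feq, feq, ← code_zA] at h3
  have h4 := allRange_zero h3 u hu
  rw [bor_iff, bor_iff, Bool.not_eq_true', Bool.not_eq_true', ← Bool.not_eq_true, ← Bool.not_eq_true, msk_iff, msk_iff,
    nbeq_iff, List.mem_map, List.mem_map] at h4
  obtain ⟨b, hb, e⟩ := (h4.resolve_left fun n => n h1).resolve_left fun n => n ⟨a, List.mem_range.2 ha, h2.symm⟩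
  exact ⟨b, List.mem_range.1 hb, e⟩

theorem rho_spec : inM24 rho = true ∧ MB.cj rho (code zA) = code zA := by rw [code_zA]; decide +kernel

/-! ### The frame -/

variable {G : Type*} [Group G] (F : Fr t G) {g : G}

theorem mem_X : g ∈ F.X ↔ ∃ i < nx t, F.Ic g (ex t i) := by cases t; exacts [Fr.mem_ES, Fr.mem_EE]

/-- A subgroup that contains `V` and lifts of the generators contains `Y`. -/
theorem Y_le {U : Subgroup G} (hV : F.V ≤ U) (h : ∀ c ∈ gy t, ∃ g ∈ U, F.Ic g c) : F.Y ≤ U := fun y hy => by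
  obtain ⟨p, hp, h1⟩ := Fr.mem_pre.1 (F.Y_eq ▸ hy)
  obtain ⟨n, hn, e⟩ := le_SY (K := (U.subgroupOf F.N).map F.σ) (fun c hc =>
    let ⟨g, hg, h2⟩ := h c hc; ⟨_, ⟨⟨g, h2.1⟩, hg, rfl⟩, h2.2⟩) hp
  obtain ⟨a, ha, e'⟩ := Fr.Ic.eq_mul (F := F) (g := n) ⟨n.2, congrArg code e⟩ h1
  exact e' ▸ mul_mem (hV (F.e_mem ha)) hn

/-- The order of a subgroup of the normaliser. -/
theorem card_eq {U : Subgroup G} (hU : U ≤ F.N) {H : Subgroup PG}
    (h : ∀ p, p ∈ H ↔ ∃ q ∈ U, F.Ic q (code p)) : Nat.card U = Nat.card ↥(U ⊓ F.V) * Nat.card H := by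
  have h1 : F.σ.ker = F.V.subgroupOf F.N := Subgroup.ext F.ker
  have h2 : (U.subgroupOf F.N).map F.σ = H := Subgroup.ext fun p =>
    ⟨fun ⟨n, hn, e⟩ => (h p).2 ⟨n, hn, n.2, congrArg code e⟩,
      fun hp => let ⟨q, hq, e⟩ := (h p).1 hp; ⟨⟨q, e.1⟩, hq, code_injective e.2⟩⟩
  rw [← h2, ← relIndex_ker, h1, relIndex_subgroupOf hU, ← inf_relIndex_left, card_mul_relIndex inf_le_left]

end Loc

variable {G : Type*} [Group G] [Finite G]

namespace Fr

open Loc

variable {t : Bool} (F : Fr t G) {g v w y : G}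

theorem conj_s_iff {a : ℕ} (ha : a < 2048) : (∃ n ∈ F.N, n * F.s * n⁻¹ = F.e a) ↔ st t a = true := by
  rw [← st_iff ha]
  refine ⟨fun ⟨n, hn, e⟩ => ?_, fun ⟨p, hp, e⟩ => ?_⟩
  · obtain ⟨p, hp, h⟩ := exists_ic hn
    exact ⟨p, hp, F.e_inj (ac_lt _ _ _) ha ((h.conj_e (by decide)).symm.trans e)⟩
  · obtain ⟨n, h⟩ := F.lift' hp
    exact ⟨n, h.mem, e ▸ h.conj_e (by decide)⟩

theorem X_le_T : F.X ≤ F.T := F.pre_mono (EX_le_P2 t)

theorem Y_le_nX : F.Y ≤ normalizer (F.X : Set G) := F.Y_eq ▸ F.pre_norm (SY_le_norm t)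

theorem Y_le_nW : F.Y ≤ normalizer (F.W : Set G) := by
  refine Y_le F (fun v hv => mem_normalizer_fintype fun w hw => ?_) fun c hc => ?_
  · rwa [F.comm hv (F.W_le_V hw), mul_inv_cancel_right]
  · obtain ⟨p, hp, rfl⟩ := gens_gy t c hc
    obtain ⟨g, h⟩ := F.lift' (SY_le t hp)
    refine ⟨g, mem_normalizer_fintype fun w hw => ?_, h⟩
    obtain ⟨a, ha, h1, rfl⟩ := F.mem_sub.1 hw
    rw [h.conj_e ha]
    exact (F.e_mem_sub (ac_lt _ _ _)).2 (gy_W hc ha h1)

theorem comm_XV (hg : g ∈ F.X) (hv : v ∈ F.V) : g * v * g⁻¹ * v⁻¹ ∈ F.W := by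
  obtain ⟨i, hi, h⟩ := (mem_X F).1 hg
  obtain ⟨a, ha, rfl⟩ := (F.mem v).1 hv
  rw [h.comm_e ha]
  exact (F.e_mem_sub (xor_lt (ac_lt _ _ _) ha)).2 (ex_comm hi ha).1

theorem eqv_XW (hg : g ∈ F.X) (hw : w ∈ F.W) : Eqv F.s (g * w * g⁻¹) w := by
  obtain ⟨i, hi, h⟩ := (mem_X F).1 hg
  obtain ⟨a, ha, h1, rfl⟩ := F.mem_sub.1 hw
  rw [h.conj_e ha]
  exact (F.eqv_iff (ac_lt _ _ _) ha).2 ((ex_comm hi ha).2 h1)

theorem mem_X_of (hy : y ∈ F.Y) (h : ∀ w ∈ F.W, Eqv F.s (y * w * y⁻¹) w) : y ∈ F.X := by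
  obtain ⟨p, hp, h1⟩ := mem_pre.1 (F.Y_eq ▸ hy)
  refine mem_pre.2 ⟨p, mem_EX_of hp fun a ha e => ?_, h1⟩
  rw [← F.eqv_iff (ac_lt _ _ _) ha, ← h1.conj_e ha]
  exact h _ ((F.e_mem_sub ha).2 e)

theorem mem_V_of (hg : g ∈ F.X) (h : ∀ w ∈ F.W, g * w = w * g) : g ∈ F.V := by
  obtain ⟨i, hi, h1⟩ := (mem_X F).1 hg
  by_cases h0 : i = 0
  · exact h1.mem_V.2 (h0 ▸ ex_zero t)
  · obtain ⟨a, ha, e, n⟩ := (ex_ne hi h0).1
    exact absurd ((h1.comm_iff ha).1 (h _ ((F.e_mem_sub ha).2 e))) n

theorem mem_W_of (hv : v ∈ F.V) (h : ∀ g ∈ F.X, Eqv F.s (g * v * g⁻¹) v) : v ∈ F.W := by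
  obtain ⟨a, ha, rfl⟩ := (F.mem v).1 hv
  refine (F.e_mem_sub ha).2 ((ex_fix ha).1 fun i hi => ?_)
  obtain ⟨g, h1⟩ := F.lift (in_ex hi)
  rw [← F.eqv_iff (ac_lt _ _ _) ha, ← h1.conj_e ha]
  exact h g ((mem_X F).2 ⟨i, hi, h1⟩)

theorem cent_X (hv : v ∈ F.V) (h : ∀ g ∈ F.X, g * v = v * g) : v = 1 ∨ v = F.s := by
  obtain ⟨a, ha, rfl⟩ := (F.mem v).1 hv
  refine F.mem_sub_s.1 ((F.e_mem_sub ha).2 ((ex_fix (t := t) ha).2 fun i hi => ?_))
  obtain ⟨g, h1⟩ := F.lift (in_ex hi)
  exact (h1.comm_iff ha).1 (h g ((mem_X F).2 ⟨i, hi, h1⟩))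

theorem comm_big (hg : g ∈ F.X) (hV : g ∉ F.V) : ∃ L ≤ F.W, F.s ∈ L ∧ 16 ≤ Nat.card L ∧
    ∀ w ∈ L, ∃ v ∈ F.V, w = g * v * g⁻¹ * v⁻¹ := by
  obtain ⟨i, hi, h1⟩ := (mem_X F).1 hg
  obtain ⟨-, h2, h3⟩ := ex_ne hi fun h0 => hV (h1.mem_V.2 (h0 ▸ ex_zero t))
  have k : ∀ a < 2048, ∀ b < 2048, F.e (ac t (ex t i) (a ^^^ b) ^^^ (a ^^^ b)) =
      F.e (ac t (ex t i) a ^^^ a) * F.e (ac t (ex t i) b ^^^ b) := fun a ha b hb => by
    rw [← F.xor _ (xor_lt (ac_lt _ _ _) ha) _ (xor_lt (ac_lt _ _ _) hb), ac_xor]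
    congr 1; ac_rfl
  let L : Subgroup G :=
    { carrier := {w | ∃ a < 2048, F.e (ac t (ex t i) a ^^^ a) = w}
      one_mem' := ⟨0, by decide, by rw [ac_zero]; exact F.e_zero⟩
      mul_mem' := by
        rintro _ _ ⟨a, ha, rfl⟩ ⟨b, hb, rfl⟩
        exact ⟨_, xor_lt ha hb, k a ha b hb⟩
      inv_mem' := by
        rintro _ ⟨a, ha, rfl⟩
        exact ⟨a, ha, (F.e_inv (xor_lt (ac_lt _ _ _) ha)).symm⟩ }
  refine ⟨L, ?_, ⟨_, wt_lt t i 1, congrArg F.e h2⟩, ?_, ?_⟩
  · rintro _ ⟨a, ha, rfl⟩
    exact (F.e_mem_sub (xor_lt (ac_lt _ _ _) ha)).2 (ex_comm hi ha).1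
  · refine (le_ncard_of_codes (S := (L : Set G)) (R := fun m x => F.e (ac t (ex t i) (wt t i m) ^^^ wt t i m) = x)
      (Set.toFinite _) (fun m m' _ e e' => F.e_inj (xor_lt (ac_lt _ _ _) (wt_lt _ _ _))
        (xor_lt (ac_lt _ _ _) (wt_lt _ _ _)) (e.trans e'.symm))
      (fun m _ => ⟨_, ⟨_, wt_lt t i m, rfl⟩, rfl⟩) h3).trans (Nat.card_coe_set_eq _).ge
  · rintro _ ⟨a, ha, rfl⟩
    exact ⟨_, F.e_mem ha, (h1.comm_e ha).symm⟩

/-- Involutions with fixed points lift to involutions. -/
theorem lift_inv {p : PG} (hp : p ∈ M24) (h2 : orderOf p = 2) (h8 : (fixSet p).card ≠ 0) :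
    ∃ g, F.Ic g (code p) ∧ g * g = 1 := by
  obtain ⟨k, hk, rfl⟩ := conj_zA_of_card hp h2 h8
  suffices h : ∃ g, F.Ic g (code zA) ∧ g * g = 1 by
    obtain ⟨g, h1, h3⟩ := h
    obtain ⟨n, h4⟩ := F.lift' hk
    exact ⟨n * g * n⁻¹, code_conj k zA ▸ h4.conj h1, by rw [conj_mul, h3, mul_one, mul_inv_cancel]⟩
  obtain ⟨g, h1⟩ := F.lift' zA_mem
  obtain ⟨y, h3⟩ := F.lift rho_spec.1
  obtain ⟨u, hu, e1⟩ := (F.mem _).1 (ic_idc.1 ((h1.mul h1).of_eq (by rw [code_zA]; decide +kernel)))
  obtain ⟨a, ha, e2⟩ := h1.eq_mul ((h3.conj h1).of_eq rho_spec.2)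
  have k : ∀ b < 2048, F.e b * g * (F.e b * g) = F.e (ac t (code zA) b ^^^ b ^^^ u) := fun b hb => by
    rw [F.xor _ (xor_lt (ac_lt _ _ _) hb) u hu, ← h1.e_comm hb, e1, F.e_inv hb]; group
  obtain ⟨b, hb, e3⟩ := zA_h1 (t := t) hu ha ((h1.comm_iff hu).1 (by rw [e1, mul_assoc])) (by
    rw [← F.e_inj (xor_lt (xor_lt (ac_lt _ _ _) ha) hu) (ac_lt _ _ _) (by
      rw [← k a ha, ← e2, ← h3.conj_e hu, e1]; group), Nat.xor_xor_cancel_right])
  exact ⟨F.e b * g, h1.V_mul (F.e_mem hb), by rw [k b hb, e3, Nat.xor_self, F.e_zero]⟩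

theorem Ex.W_le {F : Fr t G} {Q : Subgroup G} (h : F.Ex Q) : F.W ≤ Q := h.inf ▸ inf_le_left

theorem Ex.lift {F : Fr t G} {Q : Subgroup G} (h : F.Ex Q) {p : PG} (hp : p ∈ EX t) : ∃ q ∈ Q, F.Ic q (code p) := by
  obtain ⟨g, h1⟩ := F.lift' (EX_le t hp)
  obtain ⟨q, hq, v, hv, rfl⟩ := h.sup g (mem_pre.2 ⟨p, hp, h1⟩)
  exact ⟨q, hq, mul_inv_cancel_right q v ▸ h1.mul_V (inv_mem hv)⟩

theorem Ex.cent_W {F : Fr t G} {Q : Subgroup G} (h : F.Ex Q) : Q ⊓ centralizer (F.W : Set G) = F.W :=
  le_antisymm (fun _ hq => h.inf ▸ ⟨hq.1, F.mem_V_of (h.le hq.1) fun w hw => (hq.2 w hw).symm⟩)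
    fun _ hw => ⟨h.W_le hw, fun _ hv => F.comm (F.W_le_V hv) (F.W_le_V hw)⟩

theorem _root_.Cfsg.Agent.R24.Loc.card_Ex {F : Fr t G} {Q : Subgroup G} (h : F.Ex Q) : Nat.card Q = Nat.card F.W * nx t := by
  rw [← h.inf, ← card_EX]
  exact card_eq F (h.le.trans (F.pre_le _)) fun p => ⟨h.lift, fun ⟨q, hq, e⟩ => e.mem_pre.1 (h.le hq)⟩

theorem Ex.card_true {F : Fr true G} {Q : Subgroup G} (h : F.Ex Q) : Nat.card Q = 2 ^ 9 := by
  rw [card_Ex h, W, F.card_sub]; decide +kernel

theorem Ex.card_false {F : Fr false G} {Q : Subgroup G} (h : F.Ex Q) : Nat.card Q = 2 ^ 13 := by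
  rw [card_Ex h, W, F.card_sub]; decide +kernel

end Fr

end Cfsg.Agent.R24
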