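import Mathlib
import Cfsg.Agent.R24.Fus
import Cfsg.Agent.R24.PL

set_option autoImplicit false
set_option linter.unusedSectionVars false

namespace Cfsg.Agent.R24

open Cfsg.Agent.Spor Cfsg.Agent.Inv.Fz Subgroup
open Cfsg.Agent.Spor.MB hiding cj
open scoped Pointwise

variable {G : Type*} [Group G] [Finite G]

variable {F : Fr true G} {c : G}

namespace StdK

/-- For every non-trivial entry `i` of the table `e` and every `k < n` the vector `2 ^ x k` is the commutator of a vector fixed by
`e i` with an entry of the table. -/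
noncomputable def wk (e x : ℕ → ℕ) (n W : ℕ) : Bool :=
  allLt 63 fun i => Spor.force (mx true (e (Nat.succ i))) fun M => allLt n fun k =>
    Spor.force (getP 17 131071 W (Nat.add (Nat.mul n (Nat.succ i)) k)) fun w => Spor.force (Nat.land w 2047) fun u =>
      band (Nat.beq (apm M u) u)
        (Nat.beq (Nat.xor (ac true (e (Nat.land (Nat.shiftRight w 11) 63)) u) u) (Nat.pow 2 (x k)))

theorem wk_spec {e x : ℕ → ℕ} {n W : ℕ} (h : wk e x n W = true) {i : ℕ} (h0 : i ≠ 0) (hi : i < 64) {k : ℕ} (hk : k < n) :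
    ∃ u < 2048, ∃ j < 64, ac true (e i) u = u ∧ ac true (e j) u ^^^ u = 2 ^ x k := by
  obtain ⟨i, rfl⟩ := Nat.exists_eq_succ_of_ne_zero h0
  have := (allLt_iff _ _).1 h i (by omega)
  rw [feq] at this
  have := (allLt_iff _ _).1 this k hk
  rw [feq, feq, band_iff, nbeq_iff, nbeq_iff] at this
  exact ⟨_, Nat.lt_succ_of_le Nat.and_le_right, _, Nat.lt_succ_of_le Nat.and_le_right, this⟩

theorem wkS : wk eS (getP 4 15 (nat_lit 0xa410)) 4 (nat_lit 0x5860e81014082b0c05800a40012002b0008060a58012c0126408060c5902608126005b00a88066c02b6005b60c52076d82b6c08060a9002250124008060c4802258124424860a43012180b2024820c59034900b2c20360a8b03480106c20360a4301218106c24a21282014100b2c24a610d0022580b2020360c4801410106c20360e9802250106c040210c9014100b2005800a40012002b0004020c48014100b2c05860e81014082b0c10100a9002608124011820e9202608082410100a5b012d8124411840a58012c0082410100a9003480124011b20a4301218082410100a4301218124411b40c4803490082404020a5b012d80b4005b00a88066c02b6004020a58012c00b4c05b60c52076d82b6c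10200a9302250192811b20a5b012d8084811b40c5902258084810200a58012c0192004040e98014d00b2c05b60c52076d82b6c05b00a88066c02b60040412c8014c80b2011820c5902258084810200a8b02250192810200a58012c0192011840a5b012d8084805860e81014082b0c04040a43012180b4c04040a43012180b4005800a40012002b000432260a12098082804020a93014d008240434221a12088084404020a90014c808240434221a12088084404040a5b012d8084804040a58012c008480432260a1209808280432260a1209808280434221a120880844080610d0026400b20080610c902648106c04040a4301218084804020a8b014100824080610da02608106c00000000000000000) = true := by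
  decide +kernel

theorem wkT : wk eT (getP 4 15 (nat_lit 0xa0)) 2 (nat_lit 0x40b020d0100c08360404020a8100c0828040a02098100808240405020981008082404040209810080824040a02098100808240405020a0100c082a040b020d0100c083604020209010140828040202090102c0834040402098100c082a040a02098100c0836040502098100c0828040a02098100c08360402020901010082a040202090102c08340404020a8101408260405020a010100826040202090100c0828040202090100c082a040202090100c0836040202090100c0836040b020d010280826040b020d0102808260432020a010080824043402110100808240434021101010084804040212010c808280432020a010d00844080602c802018106c040402120100808240806041b000000000) = true := by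
  decide +kernel

/-- A non-trivial element of the trio group whose commutator with `a` lies in `sub 1022`. -/
def wa (a : ℕ) : ℕ := getP 6 63 (nat_lit 0x5145145145145145145145145145145145145145145145145145145145145145145145145145145145145145145145145145145145145145145145145145145145145145145145145145145145145145145145145145145145145145145145140410410410410410410410410410410410410410410410410410410410410410410410410410410410410410410410410410410410410410410410410410410410410410410410410410410410410410410410410410410410410410410410415d75d75d75d75d75d75d75d75d75d75d75d75d75d75d75d75d75d75d75d75d75d75d75d75d75d75d75d75d75d75d75d75d75d75d75d75d75d75d75d75d75d75d75d75d75d75d75d75d75d75d75d75d75d75d75d75d75d75d75d75d75d75d75d708208208208208208208208208208208208208208208208208208208208208208208208208208208208208208208208208208208208208208208208208208208208208208208208208208208208208208208208208208208208208208208208259659659659659659659659659659659659659659659659659659659659659659659659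65965965965965965965965965965965965965965965965965965965965965965965965965965965965965965965965965965965965965965965965960c30c30c30c30c30c30c30c30c30c30c30c30c30c30c30c30c30c30c30c30c30c30c30c30c30c30c30c30c30c30c30c30c30c30c30c30c30c30c30c30c30c30c30c30c30c30c30c30c30c30c30c30c30c30c30c30c30c30c30c30c30c30c30c3555555555555555555555555555555555555555555555555555555555555555555555555555555555555555555555555555555555555555555555555555555555555555555555555555555555555555555555555555555555555555555555555041041041041041041041041041041041041041041041041041041041041041041041041041041041041041041041041041041041041041041041041041041041041041041041041041041041041041041041041041041041041041041041041514514514514514514514514514514514514514514514514514514514514514514514514514514514514514514514514514514514514514514514514514514514514514514514514514514514514514514514514514514514514514514514514041041041041041041041041041041041041041041041041041041041041041041041041041041041041041041041041041041041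0410410410410410410410410410410410410410410410410410410410410410410410410410410410410415d75d75d75d75d75d75d75d75d75d75d75d75d75d75d75d75d75d75d75d75d75d75d75d75d75d75d75d75d75d75d75d75d75d75d75d75d75d75d75d75d75d75d75d75d75d75d75d75d75d75d75d75d75d75d75d75d75d75d75d75d75d75d75d70820820820820820820820820820820820820820820820820820820820820820820820820820820820820820820820820820820820820820820820820820820820820820820820820820820820820820820820820820820820820820820820825965965965965965965965965965965965965965965965965965965965965965965965965965965965965965965965965965965965965965965965965965965965965965965965965965965965965965965965965965965965965965965965960c30c30c30c30c30c30c30c30c30c30c30c30c30c30c30c30c30c30c30c30c30c30c30c30c30c30c30c30c30c30c30c30c30c30c30c30c30c30c30c30c30c30c30c30c30c30c30c30c30c30c30c30c30c30c30c30c30c30c30c30c30c30c30c3555555555555555555555555555555555555555555555555555555555555555555555555555555555555555555555555555555555555555555555555555555555555555555555555555555555555555555555555555555555555555555555555041041041041041041041041041041041041041041041041041041041041041041041041041041041041041041041041041041041041041041041041041041041041041041041041041041041041041041041041041041041041041041041041)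 a

theorem trio {a : ℕ} (ha : a < 2048) : ∃ j < 64, j ≠ 0 ∧ (ac true (eT j) a ^^^ a) &&& 1022 = 0 := by
  have h1 : allRange 0 2048 (fun a => !Nat.beq (wa a) 0) = true := by decide +kernel
  have h2 : allLt 64 (fun j => Spor.force (mx true (eT j)) fun M => allRange 0 2048 fun a =>
      bor (!Nat.beq (wa a) j) (Nat.beq (Nat.land (Nat.xor (apm M a) a) 1022) 0)) = true := by decide +kernel
  have h3 : wa a < 64 := Nat.lt_succ_of_le Nat.and_le_right
  have h4 := (allLt_iff _ _).1 h2 _ h3
  rw [feq] at h4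
  have h5 := allRange_zero h4 a ha
  rw [Nat.beq_refl, bor_iff, nbeq_iff] at h5
  exact ⟨_, h3, fun e => absurd (allRange_zero h1 a ha) (by rw [e]; decide), h5.resolve_left (by decide)⟩

theorem v128 {a : ℕ} (ha : a < 2048) (k : ∀ j < 64, (ac true (eS j) a ^^^ a) &&& 1004 = 0) : a &&& 128 = 0 := by
  have h : (Spor.force (mx true (eS 1)) fun A => Spor.force (mx true (eS 2)) fun B => Spor.force (mx true (eS 4)) fun C =>
      Spor.force (mx true (eS 8)) fun D => Spor.force (mx true (eS 16)) fun E => Spor.force (mx true (eS 32)) fun H =>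
      allRange 0 2048 fun a => bor (Nat.beq (Nat.land a 128) 0)
        (!band (Nat.beq (Nat.land (Nat.xor (apm A a) a) 1004) 0) (band (Nat.beq (Nat.land (Nat.xor (apm B a) a) 1004) 0)
        (band (Nat.beq (Nat.land (Nat.xor (apm C a) a) 1004) 0) (band (Nat.beq (Nat.land (Nat.xor (apm D a) a) 1004) 0)
        (band (Nat.beq (Nat.land (Nat.xor (apm E a) a) 1004) 0)
          (Nat.beq (Nat.land (Nat.xor (apm H a) a) 1004) 0))))))) = true := by decide +kernel
  simp only [feq, ac_def] at h
  have := allRange_zero h a ha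
  simp only [Nat.land_eq, Nat.xor_eq] at this
  rw [k 1 (by omega), k 2 (by omega), k 4 (by omega), k 8 (by omega), k 16 (by omega), k 32 (by omega)] at this
  simpa [band] using this

theorem lt4 {i : ℕ} (hi : i < 64) (k : ∀ a < 2048, a &&& 128 = 0 → (ac true (eS i) a ^^^ a) &&& 1020 = 0) : i < 4 := by
  have h : allLt 64 (fun i => bor (blt i 4) (Spor.force (mx true (eS i)) fun M => !allLt 11 fun k =>
      bor (Nat.beq k 7) (Nat.beq (Nat.land (Nat.xor (apm M (Nat.pow 2 k)) (Nat.pow 2 k)) 1020) 0))) = true := by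
    decide +kernel
  have h1 := (allLt_iff _ _).1 h i hi
  rw [bor_iff, blt_iff, feq, Bool.not_eq_true', ← Bool.not_eq_true, allLt_iff] at h1
  refine h1.resolve_right (not_not.2 fun l hl => ?_)
  rw [bor_iff, nbeq_iff, nbeq_iff]
  exact or_iff_not_imp_left.2 fun e => k (2 ^ l) (Nat.pow_lt_pow_right (by decide) hl)
    ((by decide : ∀ l < 11, l ≠ 7 → 2 ^ l &&& 128 = 0) l hl e)

theorem comW {j a : ℕ} (hj : j < 64) (ha : a < 2048) (k : a &&& 1008 = 0) : (ac true (eS j) a ^^^ a) &&& 1020 = 0 := by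
  have h : allLt 64 (fun j => Spor.force (mx true (eS j)) fun M => allRange 0 2048 fun a =>
      bor (!Nat.beq (Nat.land a 1008) 0) (Nat.beq (Nat.land (Nat.xor (apm M a) a) 1020) 0)) = true := by decide +kernel
  have h1 := (allLt_iff _ _).1 h j hj
  rw [feq] at h1
  have h2 := allRange_zero h1 a ha
  rw [bor_iff, nbeq_iff, Nat.land_eq, k] at h2
  exact h2.resolve_left (by decide)

theorem ok4 : tabOK eE (3 + 1) = true := by decide +kernel

theorem sub_le {t : Bool} (F : Fr t G) {H : Subgroup G} {m : ℕ} (h : ∀ k < 11, 2 ^ k &&& m = 0 → F.e (2 ^ k) ∈ H) :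
    F.sub m ≤ H := by
  have key : ∀ n ≤ 11, ∀ a < 2 ^ n, a &&& m = 0 → F.e a ∈ H := by
    intro n
    induction n with
    | zero => intro _ a ha _; rw [Nat.lt_one_iff.1 ha, F.e_zero]; exact one_mem _
    | succ n ih =>
      intro hn a ha e
      rcases lt_or_ge a (2 ^ n) with k | k
      · exact ih (by omega) a k e
      have h1 := Nat.testBit_of_two_pow_le_and_two_pow_add_one_gt k ha
      have h2 : 2 ^ n &&& m = 0 := by
        have := congrArg (Nat.testBit · n) e
        rw [Nat.testBit_and, h1, Bool.true_and, Nat.zero_testBit] at this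
        rw [Nat.two_pow_and, this]; simp
      have h3 : a ^^^ 2 ^ n < 2 ^ n := Nat.lt_pow_two_of_testBit _ fun i hi => by
        rw [Nat.testBit_xor, Nat.testBit_two_pow]
        rcases hi.eq_or_lt with rfl | hi
        · simp [h1]
        · rw [Nat.testBit_lt_two_pow (ha.trans_le (Nat.pow_le_pow_right (by decide) hi))]
          simp [hi.ne]
      have h4 : 2 ^ n < 2048 := Nat.pow_lt_pow_right (n := 11) (by decide) hn
      rw [← Nat.xor_xor_cancel_right a (2 ^ n), F.xor _ (h3.trans h4) _ h4]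
      exact mul_mem (ih (by omega) _ h3 (by rw [Nat.and_xor_distrib_right, e, h2]; rfl)) (h n hn h2)
  intro g hg
  obtain ⟨a, ha, e, rfl⟩ := F.mem_sub.1 hg
  exact key 11 le_rfl a ha e

theorem sub_mono {t : Bool} (F : Fr t G) {m m' : ℕ} (h : m' &&& m = m') : F.sub m ≤ F.sub m' := fun g hg => by
  obtain ⟨a, ha, e, rfl⟩ := F.mem_sub.1 hg
  exact (F.e_mem_sub ha).2 (by rw [← h, Nat.and_comm m', ← Nat.and_assoc, e, Nat.zero_and])

theorem sub_inf {t : Bool} (F : Fr t G) (m m' : ℕ) : F.sub m ⊓ F.sub m' ≤ F.sub (m ||| m') := fun g hg => by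
  obtain ⟨a, ha, e, rfl⟩ := F.mem_sub.1 hg.1
  exact (F.e_mem_sub ha).2 (by rw [Nat.and_or_distrib_left, e, (F.e_mem_sub ha).1 hg.2]; rfl)

theorem core {U : Subgroup G} (h2 : ∀ u ∈ U, u * u = 1) (h : Pr F.V U) (hT : U ⊓ F.N ≤ F.T) :
    F.V ⊓ U = F.sub 1004 ∧ F.V ⊓ normalizer (U : Set G) = F.sub 128 ∧ U ⊓ F.N ≤ F.pre ES ∧
      ∀ i < 64, ∃ b ∈ U, F.Ic b (eS i) := by
  obtain ⟨f, hf, fV, h1⟩ := h.b0
  have b2 : ∀ b ∈ U ⊓ F.N, b * b = 1 := fun b hb => h2 b hb.1
  have com : ∀ {a}, a < 2048 → F.e a ∈ normalizer (U : Set G) → ∀ {b d}, b ∈ U → F.Ic b d →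
      F.e (ac true d a ^^^ a) ∈ U := fun ha k b d hb e =>
    e.e_comm ha ▸ mul_mem ((mem_normalizer_iff.1 k b).1 hb) (inv_mem hb)
  have gen : ∀ {e x : ℕ → ℕ} {n W : ℕ}, wk e x n W = true → e 0 = idc → (∃ i < 64, F.Ic f (e i)) →
      (∀ i < 64, ∃ b ∈ U ⊓ F.N, F.Ic b (e i)) → ∀ k < n, F.e (2 ^ x k) ∈ U := fun hw e0 ⟨i, hi, e⟩ l k hk => by
    obtain ⟨u, hu, j, hj, a1, a2⟩ := wk_spec hw (fun q : i = 0 => fV (e.mem_V.2 (by rw [q, e0]))) hi hk
    obtain ⟨b, hb, e'⟩ := l j hj
    exact a2 ▸ com hu (h1 _ (F.e_mem hu) (by rw [e.e_comm hu, a1, Nat.xor_self, F.e_zero]; exact one_mem _)) hb.1 e'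
  rcases F.clsA hT b2 hf fV (fun U' hU k => h.card ▸ card_le_of_le fun u hu => ⟨hU hu, h1 u (hU hu) (k u hu).1⟩) with
    ⟨k1, k2⟩ | ⟨k1, k2⟩
  · have g := gen wkS (tabOK_spec okS).1 (Fr.mem_ES.1 (k1 hf)) k2
    have r1 : F.sub 1004 ≤ U := sub_le F fun k hk e => by
      obtain ⟨l, hl, rfl⟩ := (by decide : ∀ k < 11, 2 ^ k &&& 1004 = 0 → ∃ l < 4, getP 4 15 (nat_lit 0xa410) l = k) k hk e
      exact g l hl
    have r2 := ClsG.inf_le F b2 ClsG.fxS (by decide) k2
    have r3 : U ⊓ F.N ⊓ F.V = F.sub 1004 :=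
      le_antisymm r2 (le_inf (le_inf r1 ((F.sub_le _).trans F.V_le_N)) (F.sub_le _))
    refine ⟨le_antisymm (fun v hv => r2 ⟨⟨hv.2, F.V_le_N hv.1⟩, hv.1⟩) (le_inf (F.sub_le _) r1),
      eq_of_le_of_card_ge (fun v hv => ?_) ?_, k1, fun i hi => (k2 i hi).imp fun _ q => ⟨q.1.1, q.2⟩⟩
    · obtain ⟨a, ha, rfl⟩ := (F.mem v).1 hv.1
      refine (F.e_mem_sub ha).2 (v128 ha fun j hj => ?_)
      obtain ⟨b, hb, e⟩ := k2 j hj
      have := xor_lt (ac_lt true (eS j) a) ha
      exact (F.e_mem_sub this).1 (r2 ⟨⟨com ha hv.2 hb.1 e, F.V_le_N (F.e_mem this)⟩, F.e_mem this⟩)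
    · rw [h.card, F.card_eq k1 fun p ⟨i, hi, e⟩ => e ▸ k2 i hi, r3, card_ES, F.card_sub, F.card_sub]
      decide +kernel
  · have g := gen wkT (tabOK_spec okT).1 (Fr.mem_ET.1 (k1 hf)) k2
    have r1 : F.sub 1022 ≤ U := sub_le F fun k hk e => by
      obtain ⟨l, hl, rfl⟩ := (by decide : ∀ k < 11, 2 ^ k &&& 1022 = 0 → ∃ l < 2, getP 4 15 (nat_lit 0xa0) l = k) k hk e
      exact g l hl
    obtain ⟨v, hv, k3⟩ := h.inj
    obtain ⟨a, ha, rfl⟩ := (F.mem v).1 hv
    obtain ⟨j, hj, j0, e⟩ := trio ha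
    obtain ⟨b, hb, e'⟩ := k2 j hj
    exact absurd (((tabOK_spec okT).2 j hj).2.1 (e'.mem_V.1 (k3 b hb
      (e'.e_comm ha ▸ r1 ((F.e_mem_sub (xor_lt (ac_lt _ _ _) ha)).2 e))))) j0

theorem congr {d : G} (h : Std F c) (hd : d ∈ F.C) (e : cj d F.V = cj c F.V) : Std F d :=
  ⟨hd, e ▸ h.inf, e ▸ h.v0, e ▸ h.le, e ▸ h.lift⟩

theorem pr_N {n : G} (hn : n ∈ F.N) (h : Pr F.V (cj c F.V)) : Pr F.V (cj (n * c) F.V) := by
  have := PL.pr_cj h n
  rwa [cj_eq_iff.2 hn, cj_cj] at this

theorem cj_inf_N {n : G} (hn : n ∈ F.N) : cj (n * c) F.V ⊓ F.N = cj n (cj c F.V ⊓ F.N) := by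
  rw [cj_inf, cj_cj, cj_eq_of_mem hn]

end StdK

open StdK

theorem std_of_pr (hc : c ∈ F.C) (h : Pr F.V (cj c F.V)) : ∃ y ∈ F.Y, Std F (y * c) := by
  obtain ⟨y, hy, k⟩ := F.syl_Y.exists_cj_le (Q := cj c F.V ⊓ F.N) ((isPGroup_cj F.pg_V c).to_le inf_le_left)
    (inf_le_inf_right _ ((cj_mono F.V_le_C).trans (cj_eq_of_mem hc).le))
  obtain ⟨h1, h2, h3, h4⟩ := core (T3.sq_cj F.sq (y * c)) (pr_N hy.2 h) (by rwa [cj_inf_N hy.2])
  exact ⟨y, hy, mul_mem hy.1 hc, h1, h2, h3, h4⟩

theorem std_pair (hc : c ∈ F.C) (h1 : Pr F.V (cj c F.V)) (h2 : Pr (cj c F.V) F.V) :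
    ∃ y ∈ F.Y, ∃ y' ∈ F.Y, Std F (y * c * y') ∧ Std F (y * c * y')⁻¹ := by
  obtain ⟨y, hy, k⟩ := std_of_pr hc h1
  obtain ⟨z, hz, k'⟩ := std_of_pr (inv_mem k.cs) (by
    have := PL.pr_cj h2 c⁻¹
    rw [cj_inv_cj] at this
    rwa [mul_inv_rev, ← cj_cj, cj_eq_iff.2 (inv_mem hy.2)])
  exact ⟨y, hy, z⁻¹, inv_mem hz, congr k (mul_mem k.cs (inv_mem hz.1)) (by rw [← cj_cj, cj_eq_iff.2 (inv_mem hz.2)]),
    by rwa [mul_inv_rev, inv_inv]⟩

theorem exists_std (hn : ∃ g : G, ∃ i ∈ cj g F.V, i ∈ F.N ∧ i ∉ F.V) : ∃ c, Std F c ∧ Std F c⁻¹ := by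
  obtain ⟨g, i, h1, h2, h3⟩ := hn
  obtain ⟨c, -, p1, p2, -⟩ := pair (H := ⊤) (Q := F.V) le_top F.sq F.wc inf_le_right (mem_top g) (mem_top i) (k := 1)
    (by rw [pow_one, pow_two, T3.sq_cj F.sq g i h1]) h2 (le_normalizer h1) h1 h3
  obtain ⟨n, hn, k⟩ := F.syl_N.exists_cj_le (Q := cj c F.V ⊓ F.N) ((isPGroup_cj F.pg_V c).to_le inf_le_left) inf_le_right
  obtain ⟨k1, -⟩ := core (T3.sq_cj F.sq (n * c)) (pr_N hn p1) (by rwa [cj_inf_N hn])
  obtain ⟨d, hd, e⟩ := F.exists_C (g := n * c) (mem_inf.1 (k1.ge ((F.e_mem_sub (a := 1024) (by decide)).2 rfl))).2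
  obtain ⟨y, -, y', -, q⟩ := std_pair hd (e ▸ pr_N hn p1) (by
    have := PL.pr_cj p2 n
    rwa [cj_cj, cj_eq_iff.2 hn, ← e] at this)
  exact ⟨_, q⟩

theorem Std.norm (h1 : Std F c) (h2 : Std F c⁻¹) : c ∈ normalizer (F.sub 1004 : Set G) := by
  rw [← cj_eq_iff]
  nth_rewrite 1 [← h2.inf]
  rw [cj_inf, cj_cj_inv, inf_comm, h1.inf]

theorem Std.W_le (h1 : Std F c) (h2 : Std F c⁻¹) :
    (∀ w ∈ cj c F.W, ∃ i < 4, F.Ic w (eE i)) ∧ (∀ i < 4, ∃ w ∈ cj c F.W, F.Ic w (eE i)) ∧
      cj c F.W ⊓ F.V = F.sub 1020 := by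
  have a1 : cj c F.W ≤ cj c F.V ⊓ F.N := by
    have := congrArg (cj c) h2.v0
    rw [cj_inf, cj_normalizer, cj_cj_inv] at this
    exact this ▸ cj_mono (sub_mono F rfl)
  have a2 : cj c F.W ⊓ F.V = F.sub 1020 := by
    refine le_antisymm (fun w hw => sub_inf F 1008 1004 ⟨?_, h1.inf.le ⟨hw.2, (a1 hw.1).1⟩⟩) fun w hw => ?_
    · obtain ⟨v, hv, rfl⟩ := hw.1
      exact (F.fw h1.cs (F.W_le_V hv) hw.2).2 hv
    · obtain ⟨k, v, hv, rfl⟩ := h1.inf.ge (sub_mono F rfl hw)
      exact ⟨conj_mem_cj.2 ((F.fw h1.cs hv k).1 (sub_mono F rfl hw)), k⟩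
  have a3 : cj c (F.sub 1020) ≤ F.sub 1020 := a2.le.trans' (le_inf (cj_mono (sub_mono F rfl))
    ((cj_mono (sub_mono F rfl)).trans ((cj_eq_iff.2 (h1.norm h2)).le.trans (F.sub_le _))))
  have a4 : ∀ w ∈ cj c F.W, ∃ i < 4, F.Ic w (eE i) := fun w hw => by
    obtain ⟨i, hi, e⟩ := Fr.mem_ES.1 (h1.le (a1 hw))
    have h4 := lt4 hi fun a ha k => by
      have b1 := h1.v0.ge ((F.e_mem_sub ha).2 k)
      rw [← cj_normalizer] at b1
      obtain ⟨j, hj, e'⟩ := Fr.mem_ES.1 (h2.le ⟨conj_mem_cj.2 b1.1, by rw [inv_inv]; exact mem_cj.1 b1.2⟩)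
      obtain ⟨u, hu, q, e''⟩ := F.mem_sub.1 (mem_cj.1 hw)
      have b2 := a3 (conj_mem_cj.2 ((F.e_mem_sub (xor_lt (ac_lt _ _ _) hu)).2 (comW hj hu q)))
      rw [← e'.comm_e hu, e''] at b2
      rw [← F.e_mem_sub (xor_lt (ac_lt _ _ _) ha), ← e.e_comm ha]
      convert b2 using 1
      group
    exact ⟨i, h4, e.of_eq ((by decide +kernel : ∀ i < 4, eS i = eE i) i h4)⟩
  have a5 : cj c F.W ≤ F.N := a1.trans inf_le_right
  refine ⟨a4, (ClsG.tab_lift F (k := ok4) a5 (eq_of_le_of_card_ge (ClsG.img_le F fun w hw => Fr.mem_pre_tab.2 (a4 w hw)) ?_)).2,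
    a2⟩
  have := ClsG.card_img F a5
  rw [a2, card_cj, show Nat.card F.W = _ from F.card_sub _, F.card_sub, show cnt (fun a => Nat.beq (Nat.land a (wm true)) 0) = 32 by decide +kernel,
    show cnt (fun a => Nat.beq (Nat.land a 1020) 0) = 8 by decide +kernel] at this
  rw [card_tabG]
  omega

end Cfsg.Agent.R24
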