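import Mathlib
import Cfsg.Agent.R24.Fus
import Cfsg.Agent.R24.Tau
import Cfsg.Agent.Spor.Comp.Model

/-! The cocode case: orbits on `W` and commutators of `V` with `Q`. -/

set_option autoImplicit false
set_option linter.unusedSectionVars false
set_option linter.unusedVariables false
set_option synthInstance.maxSize 10000

namespace Cfsg.Agent.R24

open Cfsg.Agent.Spor Cfsg.Agent.Inv.Fz Subgroup
open Cfsg.Agent.Spor.MB hiding cj
open scoped Pointwise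

variable {G : Type*} [Group G] [Finite G]

variable {F : Fr false G} {Q : Subgroup G} {x g q v w y : G}

namespace OrbA

open TauA

/-- A bounded quantifier that the kernel evaluates fast. -/
noncomputable scoped instance (priority := high) decAll (n : ℕ) (P : ℕ → Prop) [DecidablePred P] :
    Decidable (∀ a, a < n → P a) :=
  decidable_of_iff (allRange 0 n (fun a => decide (P a)) = true)
    ⟨fun h a ha => of_decide_eq_true (allRange_zero h a ha),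
      fun h => allRange_of_forall fun a _ ha => decide_eq_true (h a (by omega))⟩

/-- A bounded quantifier that the kernel evaluates fast. -/
noncomputable scoped instance (priority := high) decEx (n : ℕ) (P : ℕ → Prop) [DecidablePred P] :
    Decidable (∃ a, a < n ∧ P a) :=
  decidable_of_iff (anyN (fun a => decide (P a)) n = true) (by simp only [anyN_iff, decide_eq_true_iff])

theorem exW (hw : w ∈ F.W) : ∃ a < 2048, a &&& 960 = 0 ∧ F.e a = w := F.mem_sub.1 hw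

theorem eW {a : ℕ} (ha : a < 2048) : F.e a ∈ F.W ↔ a &&& 960 = 0 := F.e_mem_sub ha

theorem ne_s {a : ℕ} (ha : a < 2048) : F.e a ≠ F.s ↔ a ≠ 1024 :=
  not_congr ⟨F.e_inj ha (by decide), fun e => e ▸ rfl⟩

theorem orb {m : ℕ} (hm : m < 2048) (n k : ℕ) : ∀ a ∈ walk (ac false) gS0 m n k,
    a < 2048 ∧ ∃ y ∈ F.Y, y * F.e m * y⁻¹ = F.e a := by
  refine walk_spec (fun c hc a ⟨ha, y, hy, e⟩ => ⟨ac_lt _ _ _, ?_⟩) ⟨hm, 1, one_mem _, by simp⟩ n k
  obtain ⟨p, hp, rfl⟩ := gens_gS0.or_idc hc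
  obtain ⟨g, hg⟩ := F.lift' hp.1
  exact ⟨g * y, mul_mem (F.Y_eq ▸ hg.mem_pre.2 hp) hy, by rw [← hg.conj_e ha, ← e]; group⟩

/-- The orbit of `1`. -/
def lS : List ℕ := [1066, 1058, 1025, 1029, 52, 1080, 1071, 22, 1081, 47, 1046, 57, 1065, 40, 1069, 1049, 33, 1035, 41, 1064, 45, 25, 1057, 11, 19, 13, 1047, 60, 1051, 1070, 30, 1050, 1067, 1063, 53, 1085, 1039, 1048, 36, 63, 17, 1026, 15, 24, 1060, 1087, 1041, 2, 1043, 1037, 23, 1084, 27, 46, 26, 43, 39, 1077, 61, 1054, 1030, 1086, 1044, 1078, 1079, 1074, 6, 62, 20, 54, 55, 50, 1027, 10, 1068, 1052, 1045, 1075, 3, 1034, 44, 28, 21, 51, 5, 1076, 56, 42, 34, 1]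

/-- The orbit of `4`. -/
def lD : List ℕ := [1055, 31, 1059, 1028, 49, 12, 1042, 1032, 1031, 1083, 32, 1038, 1053, 1040, 7, 59, 1056, 14, 29, 16, 48, 9, 38, 1072, 1033, 1062, 58, 1061, 1082, 37, 1073, 1036, 18, 8, 35, 4]

theorem walk_s : walk (ac false) gS0 1 138 0x111112000000000000000000000000000112000000000112011111111111200000001111120111112011111111111201111121111120011111111111211111111111211111 = lS :=
  MB.eq_of_beqL (by decide +kernel)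

theorem walk_d : walk (ac false) gS0 4 42 0x120000111112001111111111120111112111211111 = lD :=
  MB.eq_of_beqL (by decide +kernel)

/-- The class of a vector modulo `W`. -/
def cl (a : ℕ) : ℕ := (a >>> 6) &&& 15

/-- The commutator, modulo `s`, of a vector of class `k` with `eS i`. -/
def cT (k i : ℕ) : ℕ := getP 6 63 (nat_lit 0x3c5280ff5eb06907d5aa0be514f00ad7fc3a41a55f82a96f82a96f41a55fd7fc3a14f00aaa0be56907d5ff5eb03c528014f00ad3ec7b4985dd8e99ac00a14fc7bd3e5dd4989ac8e9b26a63757612ef1fb42803c5a63b26612757fb4ef13c5280f37eb13462c0a23ba56527d496e8e851f499c7adfc00b18dc7adfc00b18d96e8e851f499a23ba56527d4f37eb13462c0dbdc3b18d00b82b9ad41b59d82b9ad41b59ddbdc3b18d00bf76ef03462c0ae0b666d0756ae0b666d0756f76ef03462c06e1f844e9d8cc885ede807e5a5333685b13e03a95f232b57336a5313e85b95f03ab57232f846e1d8c4e95edc887e5e8046bd0e622f47e807e5cc95acb1627395f03a1fd8983b4ad103a95f273b16ad13b48981fdf47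622d0e46b5accc97e5e80a133b585a1fc03b99d272bd4272bd403b99d85a1fca133b5766ec052fc89d4e4e8f076a1f076a1d4e4e852fc89766ec089913fa91337233b9503b99d337a9113f89999d03bb9523346adcc662fc4ec0766cc856efc4662dcc46a56ecc8766ec0b5c3bf564d874a3c40a9b278278a9bc404a3d875643bfb5cc404a3278a9b3bfb5cd87564564d87b5c3bfa9b2784a3c409d61357aff4c6abe488d203133dbded445a7c404a3239adaf4c7af1359d60318d2e486ab5a7d44bde33dada2394a3c407aef8e9d71f7810030669e49a59279420c005e7dc7b9e3be810030669e497aef8e9d71f75e7dc7b9e3bea59279420c00524d04b1c33ca18238420c00b1c33c524d04420c00a18238b1c33c524d04420c00a18238524d04b1c33ca18238420c00e78ebbe78ebbebbe78ebbe789649a79649a79a79649a796475c79f75c79f79f75c79f75c040083040083083040083040cf2c31cb3c70cb3c70cf2c318218e28608a38608a38218e24504934114d24114d24504930830400c20010c200108304028a28a2cb2cb2082082492491451451041041c71c718618630c30c34d34d38e38e3cf3cf0c30c3082082041041000000000000000000000000000000000000000000000000000000000000000000000000000000000000000000000000000000)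 (Nat.add (Nat.mul 64 k) i)

theorem cl_lt (a : ℕ) : cl a < 16 := Nat.lt_succ_of_le Nat.and_le_right
theorem cl_xor (a b : ℕ) : cl (a ^^^ b) = cl a ^^^ cl b := by
  simp only [cl, Nat.shiftRight_xor_distrib, Nat.and_xor_distrib_right]
theorem cl_zero : ∀ a < 2048, a &&& 960 = 0 ↔ cl a = 0 := by decide +kernel
theorem cl_mul : ∀ k < 16, cl (64 * k) = k := by decide +kernel
theorem cT_lt (k i : ℕ) : cT k i < 64 := Nat.lt_succ_of_le Nat.and_le_right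
theorem cT_low : ∀ a < 64, a &&& 1023 = a ∧ a &&& 960 = 0 := by decide +kernel
theorem cT_xor : ∀ k < 16, ∀ i < 64, ∀ j < 64, cT k i ^^^ cT k j = cT k (i ^^^ j) := by decide +kernel

theorem eW' {a : ℕ} (ha : a < 2048) : F.e a ∈ F.W ↔ cl a = 0 := (eW ha).trans (cl_zero a ha)

theorem comm_code {i a : ℕ} (hi : i < 64) (hq : F.Ic q (eS i)) (ha : a < 2048) :
    (ac false (eS i) a ^^^ a) &&& 1023 = cT (cl a) i := by
  have h1 : allLt 64 (fun i => Spor.force (mx false (eS i)) fun M => allLt 16 fun k =>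
      Nat.beq ((apm M (64 * k) ^^^ 64 * k) &&& 1023) (cT k i)) = true := by decide +kernel
  have h2 := (allLt_iff _ _).1 h1 i hi
  rw [feq] at h2
  have h3 := (nbeq_iff _ _).1 ((allLt_iff _ _).1 h2 _ (cl_lt a))
  have h4 : 64 * cl a < 2048 := by have := cl_lt a; omega
  have h5 := F.eqv_XW (Fr.mem_ES.2 ⟨i, hi, hq⟩) ((eW' (xor_lt ha h4)).2 (by
    rw [cl_xor, cl_mul _ (cl_lt a), Nat.xor_self]))
  rw [hq.conj_e (xor_lt ha h4), F.eqv_iff (ac_lt _ _ _) (xor_lt ha h4), ac_xor] at h5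
  rw [← h3, ac_def]
  refine eq_of_xor ?_
  rw [← Nat.and_xor_distrib_right, ← h5]
  exact congrArg (· &&& 1023) (by ac_rfl)

theorem eqv_comm {i a b : ℕ} (hi : i < 64) (hq : F.Ic q (eS i)) (ha : a < 2048) (hb : b < 2048) :
    Eqv F.s (F.e b) (F.e a * q * (F.e a)⁻¹ * q⁻¹) ↔ b &&& 1023 = cT (cl a) i := by
  rw [hq.e_comm ha, F.eqv_iff hb (xor_lt (ac_lt _ _ _) ha), Nat.and_xor_distrib_right, comm_code hi hq ha,
    Nat.xor_eq_zero_iff]

theorem eqv_conj {i a : ℕ} (hi : i < 64) (hq : F.Ic q (eS i)) (ha : a < 2048) :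
    Eqv F.s (F.e a * q * (F.e a)⁻¹) q ↔ cT (cl a) i = 0 := by
  rw [eq_comm, ← Nat.zero_and 1023, ← eqv_comm hi hq ha (by decide), F.e_zero]
  exact ⟨fun h => by simpa using (h.mul_right q⁻¹).symm F.s_sq, fun h => by simpa using (h.symm F.s_sq).mul_right q⟩

theorem lift (h : F.Ex Q) {i : ℕ} (hi : i < 64) : ∃ q ∈ Q, F.Ic q (eS i) :=
  code_toPerm' (in_eS hi) ▸ h.lift (p := toPerm (eS i)) ⟨i, hi, code_toPerm' (in_eS hi)⟩

theorem mem_W0 (h : F.Ex Q) (hq : q ∈ Q) (h0 : F.Ic q (eS 0)) : q ∈ F.W :=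
  h.inf ▸ ⟨hq, h0.mem_V.2 (tabOK_spec okS).1⟩

theorem V_le_Y : F.V ≤ F.Y := F.V_le_T.trans F.T_le_Y
theorem X_le_Y : F.X ≤ F.Y := F.X_le_T.trans F.T_le_Y

end OrbA

open TauA OrbA

theorem card_W (F : Fr false G) : Nat.card F.W = 128 := (F.card_sub _).trans (by decide +kernel)
theorem card_X (F : Fr false G) : Nat.card F.X = 2 ^ 17 := by
  rw [Fr.X, F.card_pre (EX_le _), show Nat.card (EX false) = 64 from card_ES]; rfl
theorem card_Y (F : Fr false G) : Nat.card F.Y = 2 ^ 21 * 135 := by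
  rw [F.Y_eq, F.card_pre (SY_le _), card_SY_false]; rfl
theorem ncard_s (F : Fr false G) : {w | w ∈ F.W ∧ w ≠ F.s ∧ IsConj F.s w}.ncard = 90 := by
  refine Eq.trans ?_ ((F.ncard_e (fun w => w ∈ F.W ∧ w ≠ F.s ∧ IsConj F.s w)
    (fun a => decide (a &&& 960 = 0 ∧ a ≠ 1024 ∧ st false a = true)) fun a ha => by
      rw [eW ha, ne_s ha, F.isConj_iff ha, decide_eq_true_iff]).trans (by decide +kernel))
  exact congrArg _ (Set.ext fun w => ⟨fun h => ⟨F.W_le_V h.1, h⟩, fun h => h.2⟩)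
theorem ncard_d (F : Fr false G) : {w | w ∈ F.W ∧ w ≠ 1 ∧ ¬ IsConj F.s w}.ncard = 36 := by
  refine Eq.trans ?_ ((F.ncard_e (fun w => w ∈ F.W ∧ w ≠ 1 ∧ ¬ IsConj F.s w)
    (fun a => decide (a &&& 960 = 0 ∧ ¬ a = 0 ∧ ¬ st false a = true)) fun a ha => by
      rw [eW ha, Ne, F.e_eq_one ha, F.isConj_iff ha, decide_eq_true_iff]).trans (by decide +kernel))
  exact congrArg _ (Set.ext fun w => ⟨fun h => ⟨F.W_le_V h.1, h⟩, fun h => h.2⟩)
theorem conj_mul_s (hw : w ∈ F.W) (h : w ≠ F.s) (hc : IsConj F.s w) : IsConj F.s (F.s * w) := by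
  obtain ⟨a, ha, h1, rfl⟩ := exW hw
  rw [Fr.s, ← F.xor _ (by decide) a ha]
  exact (F.isConj_iff (xor_lt (by decide) ha)).2 ((by decide +kernel : ∀ a < 2048, a &&& 960 = 0 → a ≠ 1024 →
    st false a = true → st false (1024 ^^^ a) = true) a ha h1 ((ne_s ha).1 h) ((F.isConj_iff ha).1 hc))
theorem trans_s (hw : w ∈ F.W) (h : w ≠ F.s) (hc : IsConj F.s w) : ∃ y ∈ F.Y, y * F.e 1 * y⁻¹ = w := by
  obtain ⟨a, ha, h1, rfl⟩ := exW hw
  have h2 := orb (F := F) (m := 1) (by decide) 138 0x111112000000000000000000000000000112000000000112011111111111200000001111120111112011111111111201111121111120011111111111211111111111211111 a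
  rw [walk_s] at h2
  exact (h2 (memL_iff.1 ((by decide +kernel : ∀ a < 2048, a &&& 960 = 0 → a ≠ 1024 → st false a = true →
    memL lS a = true) a ha h1 ((ne_s ha).1 h) ((F.isConj_iff ha).1 hc)))).2
theorem trans_d (hw : w ∈ F.W) (h : w ≠ 1) (hc : ¬ IsConj F.s w) : ∃ y ∈ F.Y, y * F.e 4 * y⁻¹ = w := by
  obtain ⟨a, ha, h1, rfl⟩ := exW hw
  have h2 := orb (F := F) (m := 4) (by decide) 42 0x120000111112001111111111120111112111211111 a
  rw [walk_d] at h2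
  exact (h2 (memL_iff.1 ((by decide +kernel : ∀ a < 2048, a &&& 960 = 0 → ¬ a = 0 → ¬ st false a = true →
    memL lD a = true) a ha h1 ((F.e_eq_one ha).not.1 h) ((F.isConj_iff ha).not.1 hc)))).2
theorem gen_s {U : Subgroup G} (h : ∀ w ∈ F.W, w ≠ F.s → IsConj F.s w → w ∈ U) : F.W ≤ U := fun w hw => by
  obtain ⟨a, ha, h1, rfl⟩ := exW hw
  have h2 : ∀ b < 2048, b &&& 960 = 0 ∧ b ≠ 1024 ∧ st false b = true → F.e b ∈ U := fun b hb h3 =>
    h _ ((eW hb).2 h3.1) ((ne_s hb).2 h3.2.1) ((F.isConj_iff hb).2 h3.2.2)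
  obtain ⟨b, hb, h3, h4⟩ := (by decide +kernel : ∀ a < 2048, a &&& 960 = 0 → ∃ b < 64,
    (b &&& 960 = 0 ∧ b ≠ 1024 ∧ st false b = true) ∧
      (a ^^^ b) &&& 960 = 0 ∧ a ^^^ b ≠ 1024 ∧ st false (a ^^^ b) = true) a ha h1
  have hb' : b < 2048 := by omega
  have h5 := mul_mem (h2 _ (xor_lt ha hb') h4) (h2 b hb' h3)
  rwa [← F.xor _ (xor_lt ha hb') b hb', Nat.xor_xor_cancel_right] at h5
theorem pure {U : Subgroup G} (hU : U ≤ F.W) (hs : F.s ∈ U) (h : 16 ≤ Nat.card U) :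
    ∃ w ∈ U, w ≠ F.s ∧ IsConj F.s w := by
  by_contra hn
  have h1 : ∀ b < 2048, F.e b ∈ U → b &&& 960 = 0 ∧ (b = 1024 ∨ ¬ st false b = true) := fun b hb h2 =>
    ⟨(eW hb).1 (hU h2), or_iff_not_imp_left.2 fun h3 h4 => hn ⟨_, h2, (ne_s hb).2 h3, (F.isConj_iff hb).2 h4⟩⟩
  have h2 : ∀ q : ℕ → Bool, (∀ b < 2048, F.e b ∈ U → q b = true) → 16 ≤ cnt q := fun q hq => by
    rw [← F.ncard_e (fun w => ∃ b < 2048, F.e b = w ∧ q b = true) q fun b hb =>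
      ⟨fun ⟨c, hc, e, h3⟩ => F.e_inj hc hb e ▸ h3, fun h3 => ⟨b, hb, rfl, h3⟩⟩]
    refine h.trans ((Nat.card_coe_set_eq (U : Set G)).le.trans (Set.ncard_le_ncard fun w hw => ?_))
    obtain ⟨b, hb, -, rfl⟩ := exW (hU hw)
    exact ⟨F.e_mem hb, b, hb, rfl, hq b hb hw⟩
  by_cases h3 : ∀ b < 2048, F.e b ∈ U → b &&& 1023 = 0
  · exact absurd (h2 (fun b => decide (b &&& 1023 = 0)) fun b hb h4 => decide_eq_true (h3 b hb h4)) (by decide +kernel)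
  simp only [not_forall] at h3
  obtain ⟨a, ha, h3, h4⟩ := h3
  exact absurd (h2 (fun b => decide ((b &&& 960 = 0 ∧ (b = 1024 ∨ ¬ st false b = true)) ∧
      (a ^^^ b = 1024 ∨ ¬ st false (a ^^^ b) = true))) fun b hb h5 => decide_eq_true
        ⟨h1 b hb h5, (h1 _ (xor_lt ha hb) (F.xor a ha b hb ▸ mul_mem h3 h5)).2⟩)
    ((by decide +kernel : ∀ a < 2048, a &&& 960 = 0 ∧ (a = 1024 ∨ ¬ st false a = true) → ¬ a &&& 1023 = 0 →
      ¬ 16 ≤ cnt fun b => decide ((b &&& 960 = 0 ∧ (b = 1024 ∨ ¬ st false b = true)) ∧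
        (a ^^^ b = 1024 ∨ ¬ st false (a ^^^ b) = true))) a ha (h1 a ha h3) h4)

namespace Oq

variable (h : Oq F Q x)
include h

theorem x_mem : x ∈ F.Y := TauA.x_mem h.ic
theorem ord : orderOf x = 3 :=
  haveI : Fact (Nat.Prime 3) := ⟨Nat.prime_three⟩
  orderOf_eq_prime h.x3 fun e => not_mem_X h.ic (by decide +kernel) (e ▸ one_mem _)
theorem fpf (hq : q ∈ Q) (e : x * q = q * x) : q = 1 ∨ q = F.s := by
  obtain ⟨i, hi, h1⟩ := Fr.mem_ES.1 (h.ex.le hq)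
  obtain rfl := (by decide +kernel : ∀ i < 64, mul cw (eS i) = mul (eS i) cw → i = 0) i hi
    ((h.ic.mul h1).unique (e ▸ h1.mul h.ic))
  obtain ⟨a, ha, h2, rfl⟩ := exW (mem_W0 h.ex hq h1)
  have h3 : Spor.force (mx false cw) (fun M => decide (∀ a < 2048, a &&& 960 = 0 → apm M a = a → a &&& 1023 = 0)) =
    true := by decide +kernel
  rw [feq] at h3
  exact F.mem_sub_s.1 ((F.e_mem_sub ha).2 (of_decide_eq_true h3 a ha h2 ((h.ic.comm_iff ha).1 e)))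
theorem xv (hv : v ∈ F.V) : x * v * x⁻¹ * v⁻¹ ∈ F.W := by
  obtain ⟨a, ha, rfl⟩ := (F.mem v).1 hv
  have h3 : Spor.force (mx false cw) (fun M => decide (∀ a : ℕ, a < 2048 → (apm M a ^^^ a) &&& 960 = 0)) = true := by
    decide +kernel
  rw [feq] at h3
  rw [h.ic.comm_e ha, eW (xor_lt (ac_lt _ _ _) ha)]
  exact of_decide_eq_true h3 a ha
theorem mem_Q (hg : g ∈ F.X) (e : (g * x) ^ 3 ∈ Q ∨ (g * x⁻¹) ^ 3 ∈ Q) : g ∈ Q := by
  obtain ⟨q, hq, v, hv, rfl⟩ := h.ex.sup g hg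
  refine mul_mem hq ?_
  have : (Q.subgroupOf F.Y).Normal := (normal_subgroupOf_iff_le_normalizer (h.ex.le.trans X_le_Y)).2 h.ex.norm
  let π := QuotientGroup.mk' (Q.subgroupOf F.Y)
  have hπ : ∀ a : F.Y, π a = 1 ↔ (a : G) ∈ Q := fun a => QuotientGroup.eq_one_iff a
  let q' : F.Y := ⟨q, X_le_Y (h.ex.le hq)⟩
  let v' : F.Y := ⟨v, V_le_Y hv⟩
  let x' : F.Y := ⟨x, h.x_mem⟩
  have h1 : Commute (π v') (π x') := by
    have h2 := (hπ (x' * v' * x'⁻¹ * v'⁻¹)).2 (h.ex.W_le (h.xv hv))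
    rw [map_mul, map_mul, map_mul, map_inv, map_inv, mul_inv_eq_one, mul_inv_eq_iff_eq_mul] at h2
    exact h2.symm
  have h2 : π x' ^ 3 = 1 := by rw [← map_pow, show x' ^ 3 = 1 from Subtype.ext h.x3, map_one]
  have h3 : π v' ^ 3 = π v' := by
    rw [← map_pow, show v' ^ 3 = v' from Subtype.ext (by simp [v', pow_succ, F.sq v hv])]
  refine (hπ v').1 ?_
  rcases e with e | e
  · have h4 := (hπ ((q' * v' * x') ^ 3)).2 e
    rwa [map_pow, map_mul, map_mul, (hπ q').2 hq, one_mul, h1.mul_pow, h2, h3, mul_one] at h4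
  · have h4 := (hπ ((q' * v' * x'⁻¹) ^ 3)).2 e
    rwa [map_pow, map_mul, map_mul, map_inv, (hπ q').2 hq, one_mul, h1.inv_right.mul_pow, inv_pow, h2, h3, inv_one,
      mul_one] at h4
theorem even_Q (e : y * x * y⁻¹ * x⁻¹ ∈ F.X) : y * x * y⁻¹ * x⁻¹ ∈ Q :=
  h.mem_Q e (.inl (by rw [inv_mul_cancel_right, conj_pow, h.x3]; simp))
theorem odd_Q (e : y * x * y⁻¹ * x ∈ F.X) : y * x * y⁻¹ * x ∈ Q :=
  h.mem_Q e (.inr (by rw [mul_inv_cancel_right, conj_pow, h.x3]; simp))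
theorem nx (hy : y ∈ F.Y) : y * x * y⁻¹ * x⁻¹ ∈ Q ∨ y * x * y⁻¹ * x ∈ Q :=
  (sgn h.ic ⟨y, hy⟩).imp (fun e => h.even_Q e.2) fun e => h.odd_Q e.2
theorem not_both (h1 : y * x * y⁻¹ * x⁻¹ ∈ F.X) (h2 : y * x * y⁻¹ * x ∈ F.X) : False :=
  not_mem_X (h.ic.mul h.ic) (by decide +kernel) (by convert mul_mem (inv_mem h1) h2 using 1; group)
theorem exists_inv : ∃ y ∈ F.T, y * x * y⁻¹ * x ∈ Q := by
  obtain ⟨y, hy, h1⟩ := liftT (F := F) 5 0x23412 (c := 5446591472269425589828646947948258) (by decide +kernel)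
  exact ⟨y, hy, h.odd_Q (mem_X ((h1.conj h.ic).mul h.ic) (by decide +kernel))⟩
theorem card_mod {U : Subgroup G} (hU : U ≤ Q) (hs : F.s ∈ U) (hx : x ∈ normalizer (U : Set G)) :
    Nat.card U % 3 = 2 := by
  have : Fact (Nat.Prime 3) := ⟨Nat.prime_three⟩
  have h1 := GT.card_modEq_card_inf_centralizer (p := 3) (Q := zpowers x)
    (IsPGroup.of_card (n := 1) (by rw [Nat.card_zpowers, h.ord, pow_one])) (zpowers_le.2 hx)
  have h2 : U ⊓ centralizer (zpowers x : Set G) = F.sub 1023 := by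
    refine le_antisymm (fun u hu => F.mem_sub_s.2 (h.fpf (hU hu.1) (hu.2 x (mem_zpowers x)))) fun u hu => ?_
    rcases F.mem_sub_s.1 hu with rfl | rfl
    · exact one_mem _
    · exact ⟨hs, fun a ha => (F.mem_C.1 ((zpowers_le.2 h.x_mem ha).1)).symm⟩
  rw [h2, F.card_sub] at h1
  exact Eq.trans h1 (by decide +kernel)
theorem cW2 {a b : G} (ha : a ∈ F.V) (hb : b ∈ F.V) (h1 : a ∉ F.W) (h2 : b ∉ F.W) (h3 : a * b ∉ F.W) (hq : q ∈ Q)
    (e1 : Eqv F.s (a * q * a⁻¹) q) (e2 : Eqv F.s (b * q * b⁻¹) q) : q ∈ F.W := by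
  obtain ⟨a, ha', rfl⟩ := (F.mem a).1 ha
  obtain ⟨b, hb', rfl⟩ := (F.mem b).1 hb
  obtain ⟨i, hi, h4⟩ := Fr.mem_ES.1 (h.ex.le hq)
  rw [← F.xor a ha' b hb', eW' (xor_lt ha' hb'), cl_xor] at h3
  obtain rfl := (by decide +kernel : ∀ i < 64, ∀ k < 16, cT k i = 0 → ¬ k = 0 → ∀ l < 16, cT l i = 0 → ¬ l = 0 →
    ¬ k ^^^ l = 0 → i = 0) i hi _ (cl_lt a) ((eqv_conj hi h4 ha').1 e1) ((eW' ha').not.1 h1) _ (cl_lt b)
    ((eqv_conj hi h4 hb').1 e2) ((eW' hb').not.1 h2) h3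
  exact mem_W0 h.ex hq h4
theorem exists_L (hv : v ∈ F.V) (hW : v ∉ F.W) : ∃ L ≤ F.W, F.s ∈ L ∧ Nat.card L = 32 ∧
    (∀ w, w ∈ L ↔ ∃ q ∈ Q, Eqv F.s w (v * q * v⁻¹ * q⁻¹)) ∧
    ∀ q ∈ Q, (∀ w ∈ L, q * w = w * q) ↔ Eqv F.s (v * q * v⁻¹) q := by
  obtain ⟨a, ha, rfl⟩ := (F.mem v).1 hv
  have hk := cl_lt a
  let L : Subgroup G :=
    { carrier := {w | ∃ b < 2048, F.e b = w ∧ ∃ i < 64, b &&& 1023 = cT (cl a) i}
      one_mem' := ⟨0, by decide, F.e_zero, 0, by decide, (by decide +kernel : ∀ k < 16, 0 &&& 1023 = cT k 0) _ hk⟩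
      mul_mem' := by
        rintro _ _ ⟨b, hb, rfl, i, hi, e1⟩ ⟨c, hc, rfl, j, hj, e2⟩
        exact ⟨b ^^^ c, xor_lt hb hc, F.xor b hb c hc, i ^^^ j, Nat.xor_lt_two_pow (n := 6) hi hj, by
          rw [Nat.and_xor_distrib_right, e1, e2, cT_xor _ hk i hi j hj]⟩
      inv_mem' := by
        rintro _ ⟨b, hb, rfl, e⟩
        exact ⟨b, hb, (F.e_inv hb).symm, e⟩ }
  have h0 : ∀ b i, b &&& 1023 = cT (cl a) i → b &&& 960 = 0 := fun b i e => by
    rw [← (cT_low _ (cT_lt (cl a) i)).2, ← e, Nat.and_assoc]; rfl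
  have h1 : L ≤ F.W := by
    rintro _ ⟨b, hb, rfl, i, -, e⟩
    exact (eW hb).2 (h0 b i e)
  refine ⟨L, h1, ⟨1024, by decide, rfl, 0, by decide, (by decide +kernel : ∀ k < 16, 1024 &&& 1023 = cT k 0) _ hk⟩,
    ?_, fun w => ⟨?_, ?_⟩, fun q hq => ?_⟩
  · refine (F.card_of_le (h1.trans F.W_le_V)
      (fun b => decide (b &&& 960 = 0 ∧ ∃ i : ℕ, i < 64 ∧ b &&& 1023 = cT (cl a) i))
      fun b hb => ?_).trans ((by decide +kernel : ∀ k < 16, ¬ k = 0 →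
        cnt (fun b => decide (b &&& 960 = 0 ∧ ∃ i : ℕ, i < 64 ∧ b &&& 1023 = cT k i)) = 32) _ hk ((eW' ha).not.1 hW))
    rw [decide_eq_true_iff]
    exact ⟨fun ⟨c, hc, e, i, hi, e'⟩ => F.e_inj hc hb e ▸ ⟨h0 c i e', i, hi, e'⟩, fun e => ⟨b, hb, rfl, e.2⟩⟩
  · rintro ⟨b, hb, rfl, i, hi, e⟩
    obtain ⟨q, hq, h2⟩ := lift h.ex hi
    exact ⟨q, hq, (eqv_comm hi h2 ha hb).2 e⟩
  · rintro ⟨q, hq, e⟩
    obtain ⟨i, hi, h2⟩ := Fr.mem_ES.1 (h.ex.le hq)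
    have h3 := F.e_mem (xor_lt (ac_lt false (eS i) a) ha)
    rw [← h2.e_comm ha] at h3
    obtain ⟨b, hb, rfl⟩ := (F.mem w).1 (e.elim (fun e => e ▸ h3) fun e => e ▸ mul_mem F.s_mem h3)
    exact ⟨b, hb, rfl, i, hi, (eqv_comm hi h2 ha hb).1 e⟩
  · obtain ⟨i, hi, h2⟩ := Fr.mem_ES.1 (h.ex.le hq)
    have h3 : allLt 64 (fun i => Spor.force (mx false (eS i)) fun M =>
        decide (∀ k : ℕ, k < 16 → ((∀ j : ℕ, j < 64 → apm M (cT k j) = cT k j) ↔ cT k i = 0))) = true := by decide +kernel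
    have h4 := (allLt_iff _ _).1 h3 i hi
    rw [feq] at h4
    have h5 : ∀ j, cT (cl a) j < 2048 := fun j => (cT_lt _ j).trans (by decide)
    rw [eqv_conj hi h2 ha, ← of_decide_eq_true h4 _ hk]
    refine ⟨fun h6 j hj => (h2.comm_iff (h5 j)).1 (h6 _ ⟨_, h5 j, rfl, j, hj, (cT_low _ (cT_lt _ j)).1⟩), ?_⟩
    rintro h6 _ ⟨b, hb, rfl, j, hj, e⟩
    have h7 := (h2.comm_iff (h5 j)).2 (h6 j hj)
    rcases (F.eqv_iff hb (h5 j)).2 (by rw [Nat.and_xor_distrib_right, e, (cT_low _ (cT_lt _ j)).1, Nat.xor_self])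
      with e' | e'
    · rw [e', h7]
    · rw [e', ← mul_assoc, ← F.mem_C.1 (X_le_Y (h.ex.le hq)).1, mul_assoc, h7, mul_assoc]
theorem dgen (hw : w ∈ F.W) (h1 : w ≠ 1) (hc : ¬ IsConj F.s w) {U : Subgroup G} (hW : F.W ≤ U)
    (hU : ∀ v ∈ F.V, v ∉ F.W → (∃ q ∈ Q, Eqv F.s w (v * q * v⁻¹ * q⁻¹)) → v ∈ U) : F.V ≤ U := fun v hv => by
  obtain ⟨b, hb, h2, rfl⟩ := exW hw
  obtain ⟨a, ha, rfl⟩ := (F.mem v).1 hv
  have h3 : ∀ a < 2048, (cl a = 0 ∨ ∃ i < 64, b &&& 1023 = cT (cl a) i) → F.e a ∈ U := fun a ha e => by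
    by_cases h4 : F.e a ∈ F.W
    · exact hW h4
    obtain ⟨i, hi, e⟩ := e.resolve_left ((eW' ha).not.1 h4)
    obtain ⟨q, hq, h5⟩ := lift h.ex hi
    exact hU _ (F.e_mem ha) h4 ⟨q, hq, (eqv_comm hi h5 ha hb).2 e⟩
  obtain ⟨l, hl, h4, h5⟩ := (by decide +kernel : ∀ b < 2048, b &&& 960 = 0 → ¬ b = 0 → ¬ st false b = true →
    ∀ k < 16, ∃ l < 16, (l = 0 ∨ ∃ i < 64, b &&& 1023 = cT l i) ∧
      (k ^^^ l = 0 ∨ ∃ i < 64, b &&& 1023 = cT (k ^^^ l) i)) b hb h2 ((F.e_eq_one hb).not.1 h1)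
    ((F.isConj_iff hb).not.1 hc) _ (cl_lt a)
  have h6 : 64 * l < 2048 := by omega
  have h7 := mul_mem (h3 _ (xor_lt ha h6) (by rwa [cl_xor, cl_mul l hl])) (h3 _ h6 (by rwa [cl_mul l hl]))
  rwa [← F.xor _ (xor_lt ha h6) _ h6, Nat.xor_xor_cancel_right] at h7
theorem trans_v (hv : v ∈ F.V) (hW : v ∉ F.W) : ∃ y ∈ F.Y, y * x * y⁻¹ * x⁻¹ ∈ Q ∧ y * F.e 64 * y⁻¹ * v ∈ F.W := by
  obtain ⟨i, j, h1⟩ := exists_uc hv
  have h2 : i ≠ j := by
    rintro rfl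
    rw [uc, Nat.xor_self, F.e_zero, mul_one] at h1
    exact hW h1
  obtain ⟨σ, h3, rfl, rfl⟩ : ∃ σ : Equiv.Perm (Fin 6), Equiv.Perm.sign σ = 1 ∧ σ 0 = i ∧ σ 2 = j := by
    obtain ⟨σ, rfl, rfl⟩ : ∃ σ : Equiv.Perm (Fin 6), σ 0 = i ∧ σ 2 = j :=
      ⟨Equiv.swap (Equiv.swap 0 i 2) j * Equiv.swap 0 i, by clear h1; revert i j; decide⟩
    rcases Int.units_eq_one_or (Equiv.Perm.sign σ) with e | e
    · exact ⟨σ, e, rfl, rfl⟩
    · exact ⟨σ * Equiv.swap 1 3, by rw [map_mul, e]; decide, rfl, rfl⟩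
  obtain ⟨y, rfl⟩ := surj (F := F) σ
  refine ⟨y, y.2, h.even_Q ((sgn h.ic y).resolve_right fun e => by rw [h3] at e; exact absurd e.1 (by decide)).2, ?_⟩
  convert mul_mem (act y 0 2) h1 using 1
  rw [F.comm hv (F.e_mem (uc_lt _ _)), mul_assoc _ _ (_ * v), ← mul_assoc _ _ v, F.e_sq (uc_lt _ _), one_mul]
  rfl
theorem norm_F3 (hy : y ∈ F.Y) (e : Eqv F.s (y * F.e 1 * y⁻¹) (F.e 1)) : y ∈ normalizer (F.sub 1020 : Set G) := by
  have hs : F.s ∈ F.sub 1020 := (F.e_mem_sub (by decide)).2 (by decide)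
  have h0 : ∀ {a b : G}, Eqv F.s a b → b ∈ F.sub 1020 → a ∈ F.sub 1020 := fun e hb =>
    e.elim (fun e => e ▸ hb) fun e => e ▸ mul_mem hs hb
  have hW : F.sub 1020 ≤ F.W := fun u hu => by
    obtain ⟨a, ha, h1, rfl⟩ := F.mem_sub.1 hu
    exact (eW ha).2 (by rw [show 960 = 1020 &&& 960 from rfl, ← Nat.and_assoc, h1]; rfl)
  have hx : x ∈ normalizer (F.sub 1020 : Set G) := mem_normalizer_fintype fun u hu => by
    obtain ⟨a, ha, h1, rfl⟩ := F.mem_sub.1 hu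
    rw [h.ic.conj_e ha]
    exact (F.e_mem_sub (ac_lt _ _ _)).2
      ((by decide +kernel : ∀ a < 2048, a &&& 1020 = 0 → ac false cw a &&& 1020 = 0) a ha h1)
  have hQ : Q ≤ normalizer (F.sub 1020 : Set G) := fun q hq => mem_normalizer_fintype fun u hu =>
    h0 (F.eqv_XW (h.ex.le hq) (hW hu)) hu
  have h1 : y * x * y⁻¹ ∈ normalizer (F.sub 1020 : Set G) := by
    rcases h.nx hy with e | e
    · simpa using mul_mem (hQ e) hx
    · simpa using mul_mem (hQ e) (inv_mem hx)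
  have h2 : y * F.e 1 * y⁻¹ ∈ F.sub 1020 := h0 e ((F.e_mem_sub (by decide)).2 (by decide))
  have h3 : y * F.e 2 * y⁻¹ ∈ F.sub 1020 := by
    convert (mem_normalizer_iff.1 h1 _).1 h2 using 1
    rw [show 2 = ac false cw 1 by decide +kernel, ← h.ic.conj_e (by decide)]
    group
  have h4 : y * F.e 1024 * y⁻¹ ∈ F.sub 1020 := by
    rw [show F.e 1024 = F.s from rfl, ← F.mem_C.1 hy.1, mul_inv_cancel_right]; exact hs
  let K := (F.sub 1020).comap (MulAut.conj y).toMonoidHom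
  have h5 : ∀ a < 2048, ∀ b < 2048, F.e a ∈ K → F.e b ∈ K → F.e (a ^^^ b) ∈ K := fun a ha b hb e1 e2 =>
    F.xor a ha b hb ▸ mul_mem e1 e2
  have h6 : F.e 3 ∈ K := h5 1 (by decide) 2 (by decide) h2 h3
  refine mem_normalizer_fintype fun u hu => ?_
  obtain ⟨a, ha, h7, rfl⟩ := F.mem_sub.1 hu
  rcases (by decide +kernel : ∀ a < 2048, a &&& 1020 = 0 → a = 0 ∨ a = 1 ∨ a = 2 ∨ a = 3 ∨ a = 1024 ∨ a = 1025 ∨
    a = 1026 ∨ a = 1027) a ha h7 with rfl | rfl | rfl | rfl | rfl | rfl | rfl | rfl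
  exacts [h5 1 (by decide) 1 (by decide) h2 h2, h2, h3, h6, h4, h5 1 (by decide) 1024 (by decide) h2 h4,
    h5 2 (by decide) 1024 (by decide) h3 h4, h5 3 (by decide) 1024 (by decide) h6 h4]

end Oq

end Cfsg.Agent.R24
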