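import Mathlib
import Cfsg.Agent.R24.OrbA

/-! Invariant sets of involutions of the extraspecial group of order `2 ^ 13`. -/

set_option autoImplicit false

namespace Cfsg.Agent.R24

open Cfsg.Agent.Spor Cfsg.Agent.Inv.Fz Subgroup
open Cfsg.Agent.Spor.MB hiding cj
open scoped Pointwise

variable {G : Type*} [Group G] [Finite G]

variable {F : Fr false G} {Q : Subgroup G} {y : G}

namespace OrbB

omit [Finite G] in
theorem dvd_free (H : Subgroup G) (S : Set G) (h1 : ∀ h ∈ H, ∀ x ∈ S, h * x * h⁻¹ ∈ S)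
    (h2 : ∀ h ∈ H, ∀ x ∈ S, h * x = x * h → h = 1) : Nat.card H ∣ S.ncard := by
  let _ : MulAction H S :=
    { smul := fun h x => ⟨h * x * (h : G)⁻¹, h1 _ h.2 _ x.2⟩
      one_smul := fun x => Subtype.ext (show ((1 : H) : G) * x * ((1 : H) : G)⁻¹ = x by simp)
      mul_smul := fun a b x => Subtype.ext (show ((a * b : H) : G) * x * ((a * b : H) : G)⁻¹ =
        a * (b * x * (b : G)⁻¹) * (a : G)⁻¹ by simp [mul_assoc]) }
  have e := MulAction.selfEquivOrbitsQuotientProd (G := H) (X := S) fun b => (eq_bot_iff_forall _).2 fun a ha =>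
    Subtype.ext (h2 _ a.2 _ b.2 (mul_inv_eq_iff_eq_mul.1 (congrArg Subtype.val (MulAction.mem_stabilizer_iff.1 ha))))
  rw [← Nat.card_coe_set_eq, Nat.card_congr e, Nat.card_prod]
  exact Dvd.intro_left _ rfl

theorem dvd_prime {p : ℕ} (hp : p.Prime) (h : orderOf y = p) {S : Set G} (hS : ∀ x ∈ S, y * x * y⁻¹ ∈ S) :
    p ∣ (S \ centralizer {y}).ncard := by
  have := Fact.mk hp
  have hc : Nat.card (zpowers y) = p := by rw [Nat.card_zpowers, h]
  rw [← hc]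
  refine dvd_free _ _ (fun k hk x hx => ?_) fun k hk x hx e => ?_
  · obtain ⟨n, rfl⟩ := mem_powers_iff_mem_zpowers.2 hk
    refine ⟨?_, fun hh => hx.2 ?_⟩
    · induction n with
      | zero => simpa using hx.1
      | succ n ih =>
        have := hS _ (ih (pow_mem (mem_zpowers y) n))
        convert this using 1
        simp only [pow_succ']; group
    · have h3 : y ^ n ∈ centralizer {y} := pow_mem (mem_centralizer_singleton.2 rfl) n
      have := mul_mem (mul_mem (inv_mem h3) hh) h3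
      convert this using 1
      simp only [SetLike.mem_coe]; group
  · by_contra hne
    have h3 := mem_zpowers_of_prime_card hc (g := ⟨k, hk⟩) (g' := ⟨y, mem_zpowers y⟩) fun e => hne (congrArg Subtype.val e)
    obtain ⟨n, hn⟩ := h3
    have h4 : k ^ n = y := congrArg Subtype.val hn
    exact hx.2 (mem_centralizer_singleton.2 (h4 ▸ (show Commute k x from e).zpow_left n))

/-- Elements of the sextet group that conjugate `eS 1` or `eS 6` to `eS i`. -/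
def tr (i : ℕ) : ℕ := getP 120 (nat_lit 0xffffffffffffffffffffffffffffff) (nat_lit 0x90e6432411808afa59aa3d42eba16c3b281490a8b8e568080d53dcb8ccd53c5019428503dc4b5c4d62d2354cd565e6eabe002b4295447431ec224968554727584745e646ad902c4060a68f419e4a16f5800ee1d9b14a83312e4c6caa2995ec0297175c2339a884d8904340a144d649c832be8eb86b09b24b89d965dd466a6620c080449f5a38a38cc500d166b32a95348fb8247438a36a14079dccbc655988264d06b2d8903342a12c76a4488625f205dd02cea700ea4331f16a4b2442cb99d4ea5c2290e6432411808afa59aa3d42eba16ca9576452e3201ca7b6096485109a67126555b9b49d94589cc34320f25c0139430ba28323dcb959ac1013151ab338165951a21daea7ba294308185666609f353a173b4258d4c3a26c02224b9bc25022c91c28b93a2cb888a69ea67a206b0a323956104eb72346c72934722807c2ac09e4db5c44524cb9947143533a08a430ec101eb753e307498b1b12279ec8b925530033551ab83a25650ce3d84f8dd4d20cb09d42902d120d8b21be6441a0aa31698b8edadc4051e5658c4625e7173605620150d1e9830a61a4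2badd147ccea74452011b69809480e414b04e2a9f16d91759ea66086a2926149af06be968baa03c90b254b275d475be620b10088e864b616650ce3d84f8dd4d20cb09d42902d1228a9353597aac30218f64be404446e341616286dbc4944880f921d629e75b5d6f94dc2a4407aa546620612c08d185754412235004b1e6d649f7515d159450bbce3b4dd453489006b1349883342a12c76a4488625f205dd02cea7341616286dbc4944880f921d629e754de322d481640133216770da2b514fac68b7dae5901c46a1904a84309cd35597540ee49860571cd19304d03e89910e998eed7820575151354361216c152ae3c9af2d94c5c46834e09200378adb522af23898f49a74b400808caea4241644cd15483282ee42e763a5eab00e9a96427ac3175143999176408d126555b9b49d94589cc34320f25c01609f353a173b4258d4c3a26c02224b4dcceab5808a03020cb63cd6292a8fb9a44416876be6e1c2d162d55484029bc25022c91c28b93a2cb888a69ea64b061290eb11916802ed8ba72abe8a792a238d1004ac575c3134d6d651492458193ce5bd5d4508095a0c39d9b000ea4331f16a4b2442cb99d4ea5c224340a144d649c832be8eb86b09b24bbdab49ca307b9ac5a928398a4188209bd616448a1352e182e5922d4818f559c6074133bd2a4b044d2c5e6531122a5155d8543854d21a706480fbc46ebd995424a430e0a7ccf45ca2d70041bdab49ca307b9ac5a928398a418820bdab49ca307b9ac5a928398a418820)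 i

/-- The representative of the class of `eS i`. -/
def rep (i : ℕ) : ℕ := Bool.rec 6 1 (Nat.testBit (nat_lit 0x33ffaffaf9f6563e) i)

theorem tr_spec : ∀ i < 63, inM24 (tr (i + 1)) = true ∧ ac false (tr (i + 1)) 1024 = 1024 ∧
    MB.cj (tr (i + 1)) (eS (rep (i + 1))) = eS (i + 1) ∧
    MB.cj (inv (tr (i + 1))) (eS (i + 1)) = eS (rep (i + 1)) := by
  decide +kernel

/-- The part of `Ω` over `eS i`. -/
def fb (F : Fr false G) (Ω : Set G) (i : ℕ) : Set G := {q | q ∈ Ω ∧ F.Ic q (eS i)}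

omit [Finite G] in
theorem fb_eq {Ω : Set G} (h2 : ∀ y ∈ F.Y, ∀ q ∈ Ω, y * q * y⁻¹ ∈ Ω) {i : ℕ} (hi : i < 63) :
    (fb F Ω (i + 1)).ncard = (fb F Ω (rep (i + 1))).ncard := by
  obtain ⟨t1, t2, t3, t4⟩ := tr_spec i hi
  obtain ⟨y, hy⟩ := F.lift t1
  have hY := hy.mem_Y.2 t2
  rw [← Set.ncard_image_of_injective (fb F Ω (rep (i + 1))) (MulAut.conj y).injective]
  congr 1
  ext q
  refine ⟨fun ⟨a, b⟩ => ⟨y⁻¹ * q * y⁻¹⁻¹, ⟨h2 _ (inv_mem hY) _ a, (hy.inv.conj b).of_eq t4⟩, by simp [mul_assoc]⟩, ?_⟩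
  rintro ⟨r, ⟨a, b⟩, rfl⟩
  exact ⟨h2 _ hY _ a, (hy.conj b).of_eq t3⟩

theorem ncard_sum (h : F.Ex Q) {Ω : Set G} (h1 : ∀ q ∈ Ω, q ∈ Q ∧ q ∉ F.W)
    (h2 : ∀ y ∈ F.Y, ∀ q ∈ Ω, y * q * y⁻¹ ∈ Ω) : Ω.ncard = 45 * (fb F Ω 1).ncard + 18 * (fb F Ω 6).ncard := by
  have k : ∀ n ≤ 63, {q | q ∈ Ω ∧ ∃ i < n, F.Ic q (eS (i + 1))}.ncard =
      ∑ i ∈ Finset.range n, (fb F Ω (rep (i + 1))).ncard := fun n hn => by
    induction n with
    | zero => simp
    | succ n ih =>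
      rw [Finset.sum_range_succ, ← ih (by omega), ← fb_eq h2 (by omega), ← Set.ncard_union_eq]
      · congr 1
        ext q
        exact ⟨fun ⟨a, i, hi, b⟩ => (Nat.lt_succ_iff_lt_or_eq.1 hi).imp (fun e => ⟨a, i, e, b⟩)
          fun e : i = n => ⟨a, e ▸ b⟩,
          fun hq => hq.elim (fun ⟨a, i, hi, b⟩ => ⟨a, i, by omega, b⟩) fun ⟨a, b⟩ => ⟨a, n, by omega, b⟩⟩
      · refine Set.disjoint_left.2 fun q ⟨_, i, hi, b⟩ ⟨_, c⟩ => ?_
        have := tab_inj okS (by omega) (by omega) (b.unique c)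
        omega
  have e : Ω = {q | q ∈ Ω ∧ ∃ i < 63, F.Ic q (eS (i + 1))} := by
    ext q
    refine ⟨fun a => ⟨a, ?_⟩, fun a => a.1⟩
    obtain ⟨i, hi, b⟩ := Fr.mem_ES.1 (h.le (h1 q a).1)
    rcases i with _ | i
    · exact absurd (h.inf ▸ (⟨(h1 q a).1, Fr.ic_idc.1 (b.of_eq (tabOK_spec okS).1)⟩ : q ∈ Q ⊓ F.V)) (h1 q a).2
    · exact ⟨i, by omega, b⟩
  have k2 : ∀ f : ℕ → ℕ, ∑ i ∈ Finset.range 63, f (rep (i + 1)) = 45 * f 1 + 18 * f 6 := fun f => by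
    have k3 : ∀ i, f (rep (i + 1)) = if rep (i + 1) = 1 then f 1 else f 6 := fun i => by
      unfold rep; cases Nat.testBit _ (i + 1) <;> rfl
    rw [Finset.sum_congr rfl fun i _ => k3 i, Finset.sum_ite, Finset.sum_const, Finset.sum_const,
      show (Finset.filter (fun i => rep (i + 1) = 1) (Finset.range 63)).card = 45 by decide +kernel,
      show (Finset.filter (fun i => ¬ rep (i + 1) = 1) (Finset.range 63)).card = 18 by decide +kernel]
    rfl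
  rw [← k2 fun i => (fb F Ω i).ncard, ← k 63 le_rfl, ← e]

theorem fb_inv (h : F.Ex Q) {i : ℕ} (hi : i = 1 ∨ i = 6) : (fb F {q | q ∈ Q ∧ q ∉ F.W ∧ q * q = 1} i).ncard = 64 := by
  have hi' : i < 64 := by omega
  obtain ⟨q, hq, b⟩ := h.lift (p := toPerm (eS i)) ⟨i, hi', code_toPerm' (in_eS hi')⟩
  rw [code_toPerm' (in_eS hi')] at b
  obtain ⟨k, hk, e⟩ : ∃ k, (k = 0 ∨ k = 1024) ∧ q * q = F.e k :=
    (h.es.sq q hq).elim (fun e => ⟨0, .inl rfl, e.trans F.e_zero.symm⟩) fun e => ⟨1024, .inr rfl, e⟩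
  have hk' : k < 2048 := by omega
  have h1 : fb F {q | q ∈ Q ∧ q ∉ F.W ∧ q * q = 1} i = (· * q) '' {w | w ∈ F.V ∧ w ∈ F.W ∧ w * q * (w * q) = 1} := by
    ext r
    constructor
    · rintro ⟨⟨a1, -, a3⟩, c⟩
      obtain ⟨a, ha, rfl⟩ := b.eq_mul c
      exact ⟨_, ⟨F.e_mem ha, h.inf ▸ ⟨(Q.mul_mem_cancel_right hq).1 a1, F.e_mem ha⟩, a3⟩, rfl⟩
    · rintro ⟨w, ⟨a1, a2, a3⟩, rfl⟩
      refine ⟨⟨mul_mem (h.W_le a2) hq, fun hh => ?_, a3⟩, b.V_mul a1⟩
      have := ((tabOK_spec okS).2 i hi').2.1 ((b.V_mul a1).mem_V.1 (F.W_le_V hh))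
      omega
  rw [h1, Set.ncard_image_of_injective _ (mul_left_injective q)]
  have h2 : ∀ i k, (i = 1 ∨ i = 6) → (k = 0 ∨ k = 1024) → (Spor.force (mx false (eS i)) fun M => cnt fun a =>
      band (Nat.beq (Nat.land a 960) 0) (Nat.beq (Nat.xor (apm M a) a) k)) = 64 := by
    rintro _ _ (rfl | rfl) (rfl | rfl) <;> decide +kernel
  rw [← h2 i k hi hk, feq]
  refine F.ncard_e _ _ fun a ha => ?_
  rw [band_iff, nbeq_iff, nbeq_iff, ac_def]
  refine and_congr (F.e_mem_sub ha) ?_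
  have h3 : F.e a * q * (F.e a * q) = F.e (ac false (eS i) a ^^^ a ^^^ k) := by
    rw [F.xor _ (xor_lt (ac_lt _ _ _) ha) k hk', ← e, ← b.e_comm ha, F.e_inv ha]; group
  rw [h3, F.e_eq_one (xor_lt (xor_lt (ac_lt _ _ _) ha) hk'), Nat.xor_eq_zero_iff, Nat.xor_eq]

omit [Finite G] in
theorem fb_dvd {Ω : Set G} (h2 : ∀ y ∈ F.Y, ∀ q ∈ Ω, y * q * y⁻¹ ∈ Ω) {i m : ℕ}
    (hm : (Spor.force (mx false (eS i)) fun M => allRange 0 2048 fun a =>
      bor (Nat.beq a 0) (!band (Nat.beq (Nat.land a m) 0) (Nat.beq (apm M a) a))) = true) :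
    (cnt fun a => Nat.beq (Nat.land a m) 0) ∣ (fb F Ω i).ncard := by
  rw [← F.card_sub]
  refine dvd_free _ _ (fun v hv q hq => ?_) fun v hv q hq e => ?_
  · have h3 := F.sub_le m hv
    exact ⟨h2 v ⟨F.V_le_C h3, F.V_le_N h3⟩ q hq.1, (hq.2.V_mul h3).mul_V (inv_mem h3)⟩
  · obtain ⟨a, ha, h4, rfl⟩ := F.mem_sub.1 hv
    rw [feq] at hm
    have h5 := allRange_zero hm a ha
    rw [bor_iff, nbeq_iff, Bool.not_eq_true', ← Bool.not_eq_true, band_iff, nbeq_iff, nbeq_iff, ac_def] at h5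
    exact (F.e_eq_one ha).2 (h5.resolve_right fun n => n ⟨h4, (hq.2.comm_iff ha).1 e.symm⟩)

theorem inv_Y (h : F.Ex Q) : ∀ y ∈ F.Y, ∀ q ∈ {q | q ∈ Q ∧ q ∉ F.W ∧ q * q = 1},
    y * q * y⁻¹ ∈ {q | q ∈ Q ∧ q ∉ F.W ∧ q * q = 1} := fun y hy q hq =>
  ⟨(mem_normalizer_iff.1 (h.norm hy) q).1 hq.1, fun c => hq.2.1 ((mem_normalizer_iff.1 (F.Y_le_nW hy) q).2 c), by
    rw [show y * q * y⁻¹ * (y * q * y⁻¹) = y * (q * q) * y⁻¹ by group, hq.2.2]; group⟩

end OrbB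

open OrbB

theorem fiber (h : F.Ex Q) {Ω : Set G} (h1 : ∀ q ∈ Ω, q ∈ Q ∧ q ∉ F.W ∧ q * q = 1)
    (h2 : ∀ y ∈ F.Y, ∀ q ∈ Ω, y * q * y⁻¹ ∈ Ω) : ∃ a ≤ 4, ∃ b ≤ 2, Ω.ncard = 720 * a + 576 * b := by
  have k : ∀ i, i = 1 ∨ i = 6 → (fb F Ω i).ncard ≤ 64 := fun i hi =>
    fb_inv h hi ▸ Set.ncard_le_ncard fun q hq => ⟨h1 q hq.1, hq.2⟩
  obtain ⟨a, ha⟩ := fb_dvd h2 (i := 1) (m := 1135) (by decide +kernel)
  obtain ⟨b, hb⟩ := fb_dvd h2 (i := 6) (m := 1083) (by decide +kernel)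
  rw [show cnt _ = 16 by decide +kernel] at ha
  rw [show cnt _ = 32 by decide +kernel] at hb
  have k1 := k 1 (.inl rfl)
  have k6 := k 6 (.inr rfl)
  have k0 := ncard_sum h (fun q hq => ⟨(h1 q hq).1, (h1 q hq).2.1⟩) h2
  exact ⟨a, by omega, b, by omega, by omega⟩

theorem ncard_inv (h : F.Ex Q) : {q | q ∈ Q ∧ q ∉ F.W ∧ q * q = 1}.ncard = 4032 := by
  rw [ncard_sum h (fun q hq => ⟨hq.1, hq.2.1⟩) (inv_Y h), fb_inv h (.inl rfl), fb_inv h (.inr rfl)]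

theorem OrbB.no_p (h : F.Lx Q) (hy : y ∈ F.C) {p : ℕ} (hp : p.Prime) (e : y ^ p = 1) (h2 : ¬ p ∣ 4)
    (h3 : ¬ p ∣ 4158) (h4 : ∀ k < 13, p ∣ 2 ^ 13 - 2 ^ k → k = 1) : y = 1 := by
  have := Fact.mk hp
  by_contra hne
  have ho := orderOf_eq_prime e hne
  have hn := h.lg.norm y (F.mem_C.1 hy)
  have hQ := h.ex.card_false
  obtain ⟨k, hk, ek⟩ := (Nat.dvd_prime_pow Nat.prime_two).1
    (hQ ▸ card_dvd_of_le (inf_le_left : Q ⊓ centralizer {y} ≤ Q))
  have c1 : ∀ S : Set G, ↑(Q ⊓ centralizer {y}) ⊆ S → S ⊆ Q → (S \ centralizer {y}).ncard = S.ncard - 2 ^ k :=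
    fun S a b => by
      rw [← ek, ← SetLike.coe_sort_coe, Nat.card_coe_set_eq, ← Set.ncard_sdiff a]
      congr 1
      ext x
      exact and_congr_right fun hx => not_congr ⟨fun c => ⟨b hx, c⟩, fun c => c.2⟩
  rcases hk.lt_or_eq with hk | rfl
  · have d1 := dvd_prime hp ho (S := Q) hn
    rw [c1 Q (fun _ hx => hx.1) le_rfl, ← Nat.card_coe_set_eq, SetLike.coe_sort_coe, hQ] at d1
    obtain rfl := h4 k hk d1
    have d2 := dvd_prime hp ho (S := {q | q ∈ Q ∧ q * q = 1}) fun x hx => ⟨hn x hx.1, by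
      rw [show y * x * y⁻¹ * (y * x * y⁻¹) = y * (x * x) * y⁻¹ by group, hx.2]; group⟩
    rw [c1 {q | q ∈ Q ∧ q * q = 1} (fun x hx => ⟨hx.1, by
      have := congrArg Subtype.val (pow_card_eq_one' (x := (⟨x, hx⟩ : ↥(Q ⊓ centralizer {y}))))
      rw [ek] at this
      simpa [pow_two] using this⟩) fun _ hx => hx.1] at d2
    have d3 : {q | q ∈ Q ∧ q * q = 1} = {q | q ∈ Q ∧ q ∉ F.W ∧ q * q = 1} ∪ F.W := by
      ext q
      refine ⟨fun a => (em (q ∈ F.W)).symm.imp (fun b => ⟨a.1, b, a.2⟩) id, fun a => a.elim (fun b => ⟨b.1, b.2.2⟩)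
        fun b => ⟨h.ex.W_le b, F.sq q (F.W_le_V b)⟩⟩
    rw [d3, Set.ncard_union_eq (Set.disjoint_left.2 fun _ a => a.2.1), ncard_inv h.ex, ← Nat.card_coe_set_eq,
      SetLike.coe_sort_coe, card_W] at d2
    exact h3 d2
  · have d1 : Q ⊓ centralizer {y} = Q := eq_of_le_of_card_ge inf_le_left (by rw [hQ, ek])
    have d2 : y ∈ Q := h.lg.centralizer_le fun q hq =>
      (mem_centralizer_singleton.1 (show q ∈ Q ⊓ centralizer {y} from d1.symm ▸ hq).2).symm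
    exact h2 (ho ▸ orderOf_dvd_of_pow_eq_one (h.lg.aes.pow_four d2))

theorem no_13 (h : F.Lx Q) (hy : y ∈ F.C) (e : y ^ 13 = 1) : y = 1 :=
  no_p h hy (by norm_num) e (by decide) (by decide) (by decide)

theorem no_61 (h : F.Lx Q) (hy : y ∈ F.C) (e : y ^ 61 = 1) : y = 1 :=
  no_p h hy (by norm_num) e (by decide) (by decide) (by decide)

end Cfsg.Agent.R24
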