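import Mathlib
import Cfsg.Agent.R24.Std

set_option autoImplicit false
set_option linter.unusedSectionVars false

namespace Cfsg.Agent.R24

open Cfsg.Agent.Spor Cfsg.Agent.Inv.Fz Subgroup
open Cfsg.Agent.Spor.MB hiding cj
open scoped Pointwise

namespace QA

/-- An element of order seven that commutes with `eE 1`. -/
def rho : ℕ := nat_lit 55438340855280100410365401047173669

def RL : List ℕ := [0, 16, 96, 112, 768, 784, 864, 880]

def AL : List ℕ := [0, 36, 256, 292, 128, 164, 384, 420, 4, 32, 260, 288, 132, 160, 388, 416]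

theorem rho_ok : inM24 rho = true ∧ ac true rho 1024 = 1024 ∧ MB.cj rho (eE 1) = eE 1 ∧
    ac true (eE 1) 16 = 16 := by decide +kernel

theorem chkA : (Spor.force (mx true (eE 1)) fun M => allRange 0 2048 fun k =>
    bor (!Nat.beq (Nat.land k 1008) 0) (bor (!Nat.beq (apm M k) k)
      (AL.any fun a => Nat.beq (Nat.xor (apm M a) a) k))) = true := by decide +kernel

theorem chkR : (Spor.force (mx true (eE 1)) fun M => allRange 0 2048 fun k =>
    bor (!Nat.beq (apm M k) k) (RL.any fun m => Nat.beq (Nat.land k 1008) m)) = true := by decide +kernel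

noncomputable def tst (M k b : ℕ) : Bool :=
  Spor.force (Nat.xor (apm M b) k) fun b1 => Spor.force (Nat.xor (apm M b1) k) fun b2 =>
  Spor.force (Nat.xor (apm M b2) k) fun b3 => Spor.force (Nat.xor (apm M b3) k) fun b4 =>
  Spor.force (Nat.xor (apm M b4) k) fun b5 => Spor.force (Nat.xor (apm M b5) k) fun b6 =>
  RL.any fun f => RL.all fun m => bor (Nat.beq m f)
    ([b, b1, b2, b3, b4, b5, b6].any fun x => Nat.beq m (Nat.land x 1008))

theorem chkO : (Spor.force (mx true (eE 1)) fun M => Spor.force (mx true rho) fun M' => allRange 0 2048 fun k =>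
    bor (!Nat.beq (apm M k) k) (bor (tst M' k 0) (tst M' k 16))) = true := by decide +kernel

def tA (i : ℕ) : ℕ := getP 120 (nat_lit 0xffffffffffffffffffffffffffffff) (nat_lit 0xa1f282c64a954da59263b013746e20cc964b0a753968ab5e685012b8e221594781aed40d355cd9279234038250b2745c2e720a4fb3549419d5180b12bd74b1c28a8204649aa498531c5d72cd126980980cefa916ab3054706378a136a9c3090d8a9adaf351c4b88050d6075b44fa38c8b266c9106a016378ac94ab412615569a5078182f1bae2155947a5ca5dd1321e1269a36184050569241ee6788936ad564b23070ca18bdb2aa4b6a04d099c8b5306875c40bae87524a6ac6768324f6902800c4e72d0964235a00ca7b6c43cc72b8825bdab49ca307b9ac5a928398a418820bdab49ca307b9ac5a928398a418820) i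

def tB (i : ℕ) : ℕ := getP 120 (nat_lit 0xffffffffffffffffffffffffffffff) (nat_lit 0x29ab09aa2c68176251e9449c7106e38be49418b050dab65887acc34b81c21290b9582d6460fa4ea431dc9b80a3142b29da2a45d34798e45b02d7006502ab69c226208f24316d7d069b95c115244424b5b02663b16a6c02f75c71ba126532363848d83e8b9d412189c52d1955c806984f6225488362f189d78a2c72302a3392fa41abacc72116e015a4f440b3a02a63ad8d526e48846e2d0ed326f280d0b6566a259cf044228920b6d06665ce89292facdd60044502646410b43b9f06d6765b22a18837bdab49ca307b9ac5a928398a418820bdab49ca307b9ac5a928398a418820bdab49ca307b9ac5a928398a418820) i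

def tJ (i j : ℕ) : ℕ := getP 4 15 (nat_lit 0xc587a3ef2b694d0a092f4c7d6e583b02605bf8cead973403460cb9eda8f25702fa70c946be358d06d4fa0835e7c92b0b7953f0d6a48e2c05a78c3e04b69d2f0487ba6950d2ef3c082c6d793b0f5e4a0d7e46c5f280b93a0a6f3b7e284d095c03dc2a45b86790fe02534f8e9bcad6070fedcba98765432000000000000000000) (16 * i + j)

theorem chkT : (allLt 16 fun i => allLt 16 fun j => bor (Nat.beq i 0) (bor (Nat.beq j 0) (bor (Nat.beq i j)
    (Spor.force (mul (tA i) (tB (tJ i j))) fun p => band (inM24 p) (band (Nat.beq (ac true p 1024) 1024)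
      (band (Nat.beq (MB.cj p (eE 1)) (eE i)) (Nat.beq (MB.cj p (eE 2)) (eE j)))))))) = true := by
  decide +kernel

theorem exA {k : ℕ} (hk : k < 2048) (h1 : k &&& 1008 = 0) (h2 : ac true (eE 1) k = k) :
    ∃ a < 2048, ac true (eE 1) a ^^^ a = k := by
  have h := chkA
  rw [feq] at h
  have h := allRange_zero h k hk
  simp only [bor_iff, Bool.not_eq_true', ac_def, List.any_eq_true, nbeq_iff, Nat.land_eq, Nat.xor_eq, h1, h2,
    Nat.beq_refl, Bool.true_eq_false, false_or] at h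
  obtain ⟨a, ha, e⟩ := h
  exact ⟨a, (by decide : ∀ a ∈ AL, a < 2048) a ha, e⟩

theorem memR {k : ℕ} (hk : k < 2048) (h2 : ac true (eE 1) k = k) : k &&& 1008 ∈ RL := by
  have h := chkR
  rw [feq] at h
  have h := allRange_zero h k hk
  simp only [bor_iff, Bool.not_eq_true', ac_def, List.any_eq_true, nbeq_iff, Nat.land_eq, h2,
    Nat.beq_refl, Bool.true_eq_false, false_or] at h
  obtain ⟨a, ha, e⟩ := h
  exact e ▸ ha

theorem tst_spec {k b : ℕ} (h : tst (mx true rho) k b = true) : ∃ f, ∀ m ∈ RL, m = f ∨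
    ∃ j, m = (fun x => ac true rho x ^^^ k)^[j] b &&& 1008 := by
  unfold tst at h
  rw [feq, feq, feq, feq, feq, feq] at h
  simp only [List.any_eq_true, List.all_eq_true, bor_iff, nbeq_iff, ac_def, Nat.land_eq, Nat.xor_eq] at h
  obtain ⟨f, -, h⟩ := h
  refine ⟨f, fun m hm => (h m hm).imp_right ?_⟩
  rintro ⟨x, hx, e⟩
  simp only [List.mem_cons, List.not_mem_nil, or_false] at hx
  rcases hx with rfl | rfl | rfl | rfl | rfl | rfl | rfl
  exacts [⟨0, e⟩, ⟨1, e⟩, ⟨2, e⟩, ⟨3, e⟩, ⟨4, e⟩, ⟨5, e⟩, ⟨6, e⟩]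

theorem exO {k : ℕ} (hk : k < 2048) (h2 : ac true (eE 1) k = k) : ∃ b < 2048, ac true (eE 1) b = b ∧
    ∃ f, ∀ m ∈ RL, m = f ∨ ∃ j, m = (fun x => ac true rho x ^^^ k)^[j] b &&& 1008 := by
  have h := chkO
  rw [feq, feq] at h
  have h := allRange_zero h k hk
  simp only [bor_iff, Bool.not_eq_true', ac_def, h2, Nat.beq_refl, Bool.true_eq_false, false_or] at h
  rcases h with h | h
  · exact ⟨0, by norm_num, ac_zero _ _, tst_spec h⟩
  · exact ⟨16, by norm_num, rho_ok.2.2.2, tst_spec h⟩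

theorem exT {i j : ℕ} (hi : i < 16) (hj : j < 16) (i0 : i ≠ 0) (j0 : j ≠ 0) (ij : i ≠ j) :
    ∃ p, inM24 p = true ∧ ac true p 1024 = 1024 ∧ MB.cj p (eE 1) = eE i ∧ MB.cj p (eE 2) = eE j := by
  have h := chkT
  rw [allLt_iff] at h
  have h := h i hi
  rw [allLt_iff] at h
  have h := h j hj
  rw [feq] at h
  simp only [bor_iff, band_iff, nbeq_iff, i0, j0, ij, false_or] at h
  exact ⟨_, h⟩

variable {G : Type*} [Group G] [Finite G] {F : Fr true G}

theorem sq_iff {w : G} {c k : ℕ} (h : F.Ic w c) (hw : w * w = 1) (hk : k < 2048) :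
    F.e k * w * (F.e k * w) = 1 ↔ ac true c k = k := by
  have e : F.e k * w * (F.e k * w) = F.e (k ^^^ ac true c k) := by
    rw [F.xor k hk _ (ac_lt _ _ _), ← h.conj_e hk, inv_eq_of_mul_eq_one_right hw]
    group
  rw [e, F.e_eq_one (xor_lt hk (ac_lt _ _ _))]
  exact ⟨fun h => (eq_of_xor h).symm, fun h => by rw [h, Nat.xor_self]⟩

theorem same {w : G} {k k' : ℕ} (h : F.Ic w (eE 1)) (hk : k < 2048) (hk' : k' < 2048)
    (h1 : ac true (eE 1) k = k) (h2 : ac true (eE 1) k' = k') (e : k &&& 1008 = k' &&& 1008) :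
    ∃ v ∈ F.V, F.e k' * w = v * (F.e k * w) * v⁻¹ := by
  obtain ⟨a, ha, ea⟩ := exA (xor_lt hk hk') (by rw [Nat.and_xor_distrib_right, e, Nat.xor_self])
    (by rw [ac_xor, h1, h2])
  refine ⟨F.e a, F.e_mem ha, ?_⟩
  have e1 := h.e_comm ha
  rw [ea] at e1
  have e2 : F.e k' = F.e k * F.e (k ^^^ k') := by
    rw [← F.xor k hk _ (xor_lt hk hk'), ← Nat.xor_assoc, Nat.xor_self, Nat.zero_xor]
  rw [e2, ← e1, ← mul_assoc (F.e a), F.comm (F.e_mem ha) (F.e_mem hk)]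
  group

/-- The involutions over `eE 1` lie in one coset of `W` or in one class under `Y`. -/
theorem dich {w : G} (h : F.Ic w (eE 1)) (hw : w * w = 1) : ∃ g0 f, ∀ g, F.Ic g (eE 1) → g * g = 1 →
    (∃ k < 2048, g = F.e k * w ∧ k &&& 1008 = f) ∨ ∃ d ∈ F.Y, g = d * g0 * d⁻¹ := by
  obtain ⟨y, hy⟩ := F.lift rho_ok.1
  have yY : y ∈ F.Y := hy.mem_Y.2 rho_ok.2.1
  obtain ⟨k0, hk0, e0⟩ := h.eq_mul ((hy.conj h).of_eq rho_ok.2.2.1)
  have K0 : ac true (eE 1) k0 = k0 := by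
    rw [← sq_iff h hw hk0, ← e0]
    calc y * w * y⁻¹ * (y * w * y⁻¹) = y * (w * w) * y⁻¹ := by group
      _ = 1 := by rw [hw]; group
  obtain ⟨b, hb, Kb, f, hf⟩ := exO hk0 K0
  have orb : ∀ j, (fun x => ac true rho x ^^^ k0)^[j] b < 2048 ∧ ∃ d ∈ F.Y,
      F.e ((fun x => ac true rho x ^^^ k0)^[j] b) * w = d * (F.e b * w) * d⁻¹ := by
    intro j
    induction j with
    | zero => exact ⟨hb, 1, one_mem _, by simp⟩
    | succ j ih =>
      obtain ⟨h1, d, hd, e⟩ := ih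
      rw [Function.iterate_succ_apply']
      refine ⟨xor_lt (ac_lt _ _ _) hk0, y * d, mul_mem yY hd, ?_⟩
      rw [F.xor _ (ac_lt _ _ _) _ hk0, ← hy.conj_e h1, mul_assoc, ← e0]
      calc _ = y * (F.e ((fun x => ac true rho x ^^^ k0)^[j] b) * w) * y⁻¹ := by group
        _ = _ := by rw [e]; group
  refine ⟨F.e b * w, f, fun g hg h2 => ?_⟩
  obtain ⟨k, hk, rfl⟩ := h.eq_mul hg
  have K := (sq_iff h hw hk).1 h2
  rcases hf _ (memR hk K) with e | ⟨j, e⟩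
  · exact .inl ⟨k, hk, rfl, e⟩
  · obtain ⟨h1, d, hd, ed⟩ := orb j
    have K' := (sq_iff h hw h1).1 (by
      rw [ed]
      calc _ = d * (F.e b * w * (F.e b * w)) * d⁻¹ := by group
        _ = 1 := by rw [(sq_iff h hw hb).2 Kb]; group)
    obtain ⟨v, hv, ev⟩ := same h h1 hk K' K e.symm
    refine .inr ⟨v * d, mul_mem (F.T_le_Y (F.V_le_T hv)) hd, ?_⟩
    rw [ev, ed]
    group

/-- The elements with the property `P` over each non-trivial element of `EE` lie in one coset of `W`. -/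
def Single (F : Fr true G) (P : G → Prop) (i : ℕ) : Prop :=
  ∀ g g', F.Ic g (eE i) → F.Ic g' (eE i) → P g → P g' → g⁻¹ * g' ∈ F.W

theorem single_of {w : G} {f : ℕ} {P : G → Prop}
    (h : ∀ g, F.Ic g (eE 1) → P g → ∃ k < 2048, g = F.e k * w ∧ k &&& 1008 = f)
    (hw : w ∈ F.Y) : Single F P 1 := by
  intro g g' hg hg' p p'
  obtain ⟨k, hk, rfl, e⟩ := h g hg p
  obtain ⟨k', hk', rfl, e'⟩ := h g' hg' p'
  have m : F.e (k ^^^ k') ∈ F.W := (F.e_mem_sub (xor_lt hk hk')).2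
    (show (k ^^^ k') &&& 1008 = 0 by rw [Nat.and_xor_distrib_right, e, e', Nat.xor_self])
  have := (mem_normalizer_iff.1 (inv_mem (F.Y_le_nW hw)) _).1 m
  rw [F.xor k hk k' hk', ← F.e_inv hk] at this
  convert this using 1
  group

theorem pair2 (F : Fr true G) {i j : ℕ} (hi : i < 16) (hj : j < 16) (i0 : i ≠ 0) (j0 : j ≠ 0) (ij : i ≠ j) :
    ∃ y ∈ F.Y, (∀ g, F.Ic g (eE 1) → F.Ic (y * g * y⁻¹) (eE i)) ∧
      ∀ g, F.Ic g (eE 2) → F.Ic (y * g * y⁻¹) (eE j) := by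
  obtain ⟨p, h1, h2, h3, h4⟩ := exT hi hj i0 j0 ij
  obtain ⟨y, hy⟩ := F.lift h1
  exact ⟨y, hy.mem_Y.2 h2, fun g hg => (hy.conj hg).of_eq h3, fun g hg => (hy.conj hg).of_eq h4⟩

theorem one (F : Fr true G) {i : ℕ} (hi : i < 16) (i0 : i ≠ 0) :
    ∃ y ∈ F.Y, ∀ g, F.Ic g (eE 1) → F.Ic (y * g * y⁻¹) (eE i) := by
  by_cases h : i = 1
  · exact ⟨1, one_mem _, fun g hg => by simpa [h] using hg⟩
  · obtain ⟨y, hy, h1, -⟩ := pair2 F hi (by norm_num : 1 < 16) i0 one_ne_zero h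
    exact ⟨y, hy, h1⟩

theorem Single.all {P : G → Prop} (hP : ∀ y ∈ F.Y, ∀ g, P g → P (y * g * y⁻¹)) (h : Single F P 1)
    {i : ℕ} (hi : i < 16) (i0 : i ≠ 0) : Single F P i := by
  obtain ⟨y, hy, h1⟩ := one F hi i0
  obtain ⟨w, hw⟩ := F.lift (in_eE (by norm_num : 1 < 16))
  have back : ∀ g, F.Ic g (eE i) → F.Ic (y⁻¹ * g * y⁻¹⁻¹) (eE 1) := fun g hg => by
    obtain ⟨a, ha, rfl⟩ := (h1 w hw).eq_mul hg
    have m : y⁻¹ * F.e a * y⁻¹⁻¹ ∈ F.V := (mem_normalizer_iff.1 (inv_mem hy.2) _).1 (F.e_mem ha)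
    have := hw.V_mul m
    convert this using 1
    group
  intro g g' hg hg' p p'
  have := h _ _ (back g hg) (back g' hg') (hP _ (inv_mem hy) g p) (hP _ (inv_mem hy) g' p')
  have := (mem_normalizer_iff.1 (F.Y_le_nW hy) _).1 this
  convert this using 1
  group

theorem X_le_Y (F : Fr true G) : F.X ≤ F.Y := F.X_le_T.trans F.T_le_Y

theorem s_comm {g : G} (hg : g ∈ F.X) : F.s * g = g * F.s := F.mem_C.1 (X_le_Y F hg).1

theorem mem_X {g : G} {i : ℕ} (hi : i < 16) (h : F.Ic g (eE i)) : g ∈ F.X := Fr.mem_EE.2 ⟨i, hi, h⟩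

/-- Cosets of `W` of commuting elements commute modulo `s`. -/
theorem eqv_coset {a b w w' : G} (ha : a ∈ F.X) (hb : b ∈ F.X) (hw : w ∈ F.W) (hw' : w' ∈ F.W)
    (h : a * b = b * a) : Eqv F.s (a * w * (b * w') * (a * w)⁻¹) (b * w') := by
  have wX : ∀ {u}, u ∈ F.W → u ∈ F.X := fun hu => F.V_le_X (F.W_le_V hu)
  have e1 : Eqv F.s (b⁻¹ * w * b⁻¹⁻¹) w := F.eqv_XW (inv_mem hb) hw
  have e2 : Eqv F.s (a * w' * a⁻¹) w' := F.eqv_XW ha hw'
  have e3 : Eqv F.s (a * b * (b⁻¹ * w * b⁻¹⁻¹) * (w' * w⁻¹ * a⁻¹)) (a * b * w * (w' * w⁻¹ * a⁻¹)) :=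
    (e1.mul_left (s_comm (mul_mem ha hb))).mul_right _
  have e4 : a * b * w * (w' * w⁻¹ * a⁻¹) = b * (a * w' * a⁻¹) := by
    rw [h]
    calc b * a * w * (w' * w⁻¹ * a⁻¹) = b * a * (w * w') * w⁻¹ * a⁻¹ := by group
      _ = _ := by rw [F.comm (F.W_le_V hw) (F.W_le_V hw')]; group
  rw [e4] at e3
  have := e3.trans F.s_sq (e2.mul_left (s_comm hb))
  convert this using 1
  group

section Main

variable {P : G → Prop} (hP : ∀ y ∈ F.Y, ∀ g, P g → P (y * g * y⁻¹)) (hS : Single F P 1) {a1 a2 : G}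
  (h1 : F.Ic a1 (eE 1)) (h2 : F.Ic a2 (eE 2)) (p1 : P a1) (p2 : P a2) (hc : a1 * a2 = a2 * a1)

include hP h1 p1 in
theorem ex_one {i : ℕ} (hi : i < 16) (i0 : i ≠ 0) : ∃ a, F.Ic a (eE i) ∧ P a := by
  obtain ⟨y, hy, h⟩ := one F hi i0
  exact ⟨_, h _ h1, hP y hy _ p1⟩

include hP hS h1 h2 p1 p2 hc in
theorem eqv_P {g g' : G} {i j : ℕ} (hi : i < 16) (hj : j < 16) (i0 : i ≠ 0) (j0 : j ≠ 0)
    (hg : F.Ic g (eE i)) (hg' : F.Ic g' (eE j)) (p : P g) (p' : P g') : Eqv F.s (g * g' * g⁻¹) g' := by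
  by_cases ij : i = j
  · subst ij
    have m := hS.all hP hi i0 _ _ hg hg' p p'
    have := eqv_coset (mem_X hi hg) (mem_X hi hg) (one_mem _) m rfl
    simpa using this
  · obtain ⟨y, hy, k1, k2⟩ := pair2 F hi hj i0 j0 ij
    have m := hS.all hP hi i0 _ _ (k1 _ h1) hg (hP y hy _ p1) p
    have m' := hS.all hP hj j0 _ _ (k2 _ h2) hg' (hP y hy _ p2) p'
    have := eqv_coset (mem_X hi (k1 _ h1)) (mem_X hj (k2 _ h2)) m m' (by
      calc _ = y * (a1 * a2) * y⁻¹ := by group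
        _ = _ := by rw [hc]; group)
    simpa only [mul_inv_cancel_left] using this

end Main

/-- Conjugate into `W` under the centraliser of `s`. -/
def WT (F : Fr true G) (g : G) : Prop := ∃ d ∈ F.C, ∃ w ∈ F.W, g = d * w * d⁻¹

theorem WT.conj {g y : G} (hy : y ∈ F.C) (h : WT F g) : WT F (y * g * y⁻¹) := by
  obtain ⟨d, hd, w, hw, rfl⟩ := h
  exact ⟨y * d, mul_mem hy hd, w, hw, by group⟩

theorem WT.sq {g : G} (h : WT F g) : g * g = 1 := by
  obtain ⟨d, -, w, hw, rfl⟩ := h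
  calc _ = d * (w * w) * d⁻¹ := by group
    _ = 1 := by rw [F.sq w (F.W_le_V hw)]; group

theorem WT.mem_W {g : G} (h : WT F g) (hg : g ∈ F.V) : g ∈ F.W := by
  obtain ⟨d, hd, w, hw, rfl⟩ := h
  exact (F.fw hd (F.W_le_V hw) hg).2 hw

theorem WT.of_cj {c g : G} (hc : c ∈ F.C) (h : g ∈ cj c F.W) : WT F g :=
  ⟨c, hc, _, mem_cj.1 h, by group⟩

theorem ic_zero {g : G} (h : F.Ic g (eE 0)) : g ∈ F.V := h.mem_V.2 (tabOK_spec okE).1

theorem nW {g w : G} (hg : g ∈ F.X) (hw : w ∈ F.W) : g⁻¹ * w * g ∈ F.W := by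
  have := (mem_normalizer_iff.1 (inv_mem (F.Y_le_nW (X_le_Y F hg))) _).1 hw
  rwa [inv_inv] at this

theorem single_WT {c : G} (h1 : Std F c) (h2 : Std F c⁻¹) : Single F (WT F) 1 := by
  obtain ⟨-, hw, -⟩ := h1.W_le h2
  obtain ⟨w1, m1, i1⟩ := hw 1 (by norm_num)
  obtain ⟨w2, m2, i2⟩ := hw 2 (by norm_num)
  have t1 := WT.of_cj h1.cs m1
  obtain ⟨g0, f, hf⟩ := dich i1 t1.sq
  have y1 : w1 ∈ F.Y := X_le_Y F (mem_X (by norm_num) i1)
  by_cases h0 : WT F g0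
  swap
  · refine single_of (w := w1) (f := f) (fun g hg p => (hf g hg p.sq).resolve_right ?_) y1
    rintro ⟨d, hd, rfl⟩
    exact h0 (by simpa [mul_assoc] using p.conj (inv_mem hd.1))
  exfalso
  have hS : Single F (fun g => g * g = 1 ∧ ¬ WT F g) 1 := by
    refine single_of (w := w1) (f := f) (fun g hg p => (hf g hg p.1).resolve_right ?_) y1
    rintro ⟨d, hd, rfl⟩
    exact p.2 (h0.conj hd.1)
  have hP : ∀ y ∈ F.Y, ∀ g, (g * g = 1 ∧ ¬ WT F g) →
      (y * g * y⁻¹ * (y * g * y⁻¹) = 1 ∧ ¬ WT F (y * g * y⁻¹)) := by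
    rintro y hy g ⟨p, q⟩
    refine ⟨?_, fun h => q (by simpa [mul_assoc] using h.conj (inv_mem hy.1))⟩
    calc _ = y * (g * g) * y⁻¹ := by group
      _ = 1 := by rw [p]; group
  have rV : F.e 16 ∈ F.V := F.e_mem (by norm_num)
  have rW : F.e 16 ∉ F.W := fun h => absurd ((F.e_mem_sub (by norm_num)).1 h) (by decide)
  have rc : F.e 16 ∈ cj c F.V := by
    have : F.e 16 ∈ F.sub 1004 := (F.e_mem_sub (by norm_num)).2 (by decide)
    rw [← h1.inf] at this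
    exact this.2
  have cV : ∀ {a b}, a ∈ cj c F.V → b ∈ cj c F.V → a * b = b * a := fun {a b} ha hb => by
    have := F.comm (mem_cj.1 ha) (mem_cj.1 hb)
    calc a * b = c * (c⁻¹ * a * c * (c⁻¹ * b * c)) * c⁻¹ := by group
      _ = _ := by rw [this]; group
  have WV : ∀ {a}, a ∈ cj c F.W → a ∈ cj c F.V := fun ha => cj_mono F.W_le_V ha
  have nw : ∀ w ∈ cj c F.W, w * F.e 16 * (w * F.e 16) = 1 ∧ ¬ WT F (w * F.e 16) := fun w hw => by
    constructor
    · calc _ = w * (F.e 16 * w) * F.e 16 := by group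
        _ = w * w * (F.e 16 * F.e 16) := by rw [cV rc (WV hw)]; group
        _ = 1 := by rw [(WT.of_cj h1.cs hw).sq, F.sq _ rV, mul_one]
    · intro h
      have m : c⁻¹ * (w * F.e 16) * c ∈ F.W := by
        have := (h.conj (inv_mem h1.cs)).mem_W (by
          rw [inv_inv]; exact mem_cj.1 (mul_mem (WV hw) rc))
        rwa [inv_inv] at this
      have m' : F.e 16 ∈ cj c F.W := by
        have := mul_mem (inv_mem hw) (mem_cj.2 m)
        rwa [inv_mul_cancel_left] at this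
      exact rW ((WT.of_cj h1.cs m').mem_W rV)
  have i3 : F.Ic (w1 * w2) (eE 3) :=
    (i1.mul i2).of_eq (((tabOK_spec okE).2 1 (by norm_num)).2.2 2 (by norm_num)).2
  have j1 := i1.mul_V rV
  have j2 := i2.mul_V rV
  have j3 := i3.mul_V rV
  have E := fun {g g' : G} {i j : ℕ} => eqv_P (g := g) (g' := g') (i := i) (j := j) hP hS j1 j2 (nw _ m1) (nw _ m2)
    (cV (mul_mem (WV m1) rc) (mul_mem (WV m2) rc))
  have er : F.e 16 = (w1 * w2 * F.e 16) * ((w1 * F.e 16) * (w2 * F.e 16)) := by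
    have e1 : w1 * F.e 16 * (w2 * F.e 16) = w1 * w2 := by
      calc _ = w1 * (F.e 16 * w2) * F.e 16 := by group
        _ = w1 * w2 * (F.e 16 * F.e 16) := by rw [cV rc (WV m2)]; group
        _ = _ := by rw [F.sq _ rV, mul_one]
    rw [e1, mul_assoc, cV rc (WV (mul_mem m1 m2)), ← mul_assoc, (WT.of_cj h1.cs (mul_mem m1 m2)).sq, one_mul]
  refine rW (F.mem_W_of rV fun x hx => ?_)
  obtain ⟨j, hj, ij⟩ := Fr.mem_EE.1 hx
  by_cases j0 : j = 0
  · subst j0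
    rw [F.comm (ic_zero ij) rV, mul_inv_cancel_right]
    exact Eqv.rfl' _ _
  obtain ⟨g, hg, p⟩ := ex_one hP j1 (nw _ m1) hj j0
  obtain ⟨a, ha, rfl⟩ := hg.eq_mul ij
  have gX := mem_X hj hg
  have e1 := E hj (by norm_num) j0 (by norm_num) hg j1 p (nw _ m1)
  have e2 := E hj (by norm_num) j0 (by norm_num) hg j2 p (nw _ m2)
  have e3 := E hj (by norm_num) j0 (by norm_num) hg j3 p (nw _ (mul_mem m1 m2))
  have sc : ∀ {u i}, i < 16 → F.Ic u (eE i) → F.s * (g * u * g⁻¹) = g * u * g⁻¹ * F.s := fun hi hu =>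
    s_comm (mul_mem (mul_mem gX (mem_X hi hu)) (inv_mem gX))
  have e4 := e3.mul F.s_sq (e1.mul F.s_sq e2 (sc (by norm_num) j1)) (sc (by norm_num) j3)
  rw [← er] at e4
  have gV : g * F.e 16 * g⁻¹ ∈ F.V := (mem_normalizer_iff.1 hg.mem _).1 rV
  have e5 : F.e a * g * F.e 16 * (F.e a * g)⁻¹ = g * F.e 16 * g⁻¹ := by
    calc _ = F.e a * (g * F.e 16 * g⁻¹) * (F.e a)⁻¹ := by group
      _ = _ := by rw [F.comm (F.e_mem ha) gV, mul_inv_cancel_right]
  rw [e5]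
  convert e4 using 1
  conv_lhs => rw [er]
  group

end QA

variable {G : Type*} [Group G] [Finite G]

open QA in
theorem exists_Q {F : Fr true G} {c : G} (h1 : Std F c) (h2 : Std F c⁻¹) :
    ∃ Q, F.Ex Q ∧ ∀ d ∈ F.C, ∀ w ∈ F.W, d * w * d⁻¹ ∈ F.X → d * w * d⁻¹ ∈ Q := by
  have hS := single_WT h1 h2
  obtain ⟨-, hw, -⟩ := h1.W_le h2
  obtain ⟨w1, m1, i1⟩ := hw 1 (by norm_num)
  obtain ⟨w2, m2, i2⟩ := hw 2 (by norm_num)
  have t1 := WT.of_cj h1.cs m1
  have t2 := WT.of_cj h1.cs m2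
  have t3 := WT.of_cj h1.cs (mul_mem m1 m2)
  have hP : ∀ y ∈ F.Y, ∀ g, WT F g → WT F (y * g * y⁻¹) := fun y hy g p => p.conj hy.1
  have hc : w1 * w2 = w2 * w1 := by
    have := F.comm (F.W_le_V (mem_cj.1 m1)) (F.W_le_V (mem_cj.1 m2))
    calc w1 * w2 = c * (c⁻¹ * w1 * c * (c⁻¹ * w2 * c)) * c⁻¹ := by group
      _ = _ := by rw [this]; group
  have one' : WT F 1 := ⟨1, one_mem _, 1, one_mem _, by simp⟩
  have key : ∀ a ∈ F.X, ∀ a' ∈ F.X, WT F a → WT F a' → ∃ b ∈ F.X, WT F b ∧ b⁻¹ * (a * a') ∈ F.W := by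
    intro a ha a' ha' p p'
    obtain ⟨i, hi, ia⟩ := Fr.mem_EE.1 ha
    obtain ⟨j, hj, ja⟩ := Fr.mem_EE.1 ha'
    by_cases i0 : i = 0
    · subst i0
      exact ⟨a', ha', p', by rw [← mul_assoc]; exact nW ha' (p.mem_W (ic_zero ia))⟩
    by_cases j0 : j = 0
    · subst j0
      exact ⟨a, ha, p, by rw [inv_mul_cancel_left]; exact p'.mem_W (ic_zero ja)⟩
    by_cases ij : i = j
    · subst ij
      have m := hS.all hP hi i0 _ _ ia ja p p'
      rw [inv_eq_of_mul_eq_one_right p.sq] at m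
      exact ⟨1, one_mem _, one', by rwa [inv_one, one_mul]⟩
    obtain ⟨y, hy, k1, k2⟩ := pair2 F hi hj i0 j0 ij
    have m := hS.all hP hi i0 _ _ (k1 _ i1) ia (hP y hy _ t1) p
    have m' := hS.all hP hj j0 _ _ (k2 _ i2) ja (hP y hy _ t2) p'
    have x1 := mem_X hi (k1 _ i1)
    have x2 := mem_X hj (k2 _ i2)
    refine ⟨y * (w1 * w2) * y⁻¹, ?_, hP y hy _ t3, ?_⟩
    · convert mul_mem x1 x2 using 1
      group
    · convert mul_mem (nW x2 m) m' using 1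
      group
  let Q : Subgroup G :=
    { carrier := {g | ∃ a ∈ F.X, WT F a ∧ a⁻¹ * g ∈ F.W}
      one_mem' := ⟨1, one_mem _, one', by simp [one_mem]⟩
      mul_mem' := by
        rintro g g' ⟨a, ha, p, m⟩ ⟨a', ha', p', m'⟩
        obtain ⟨b, hb, q, mb⟩ := key a ha a' ha' p p'
        refine ⟨b, hb, q, ?_⟩
        convert mul_mem (mul_mem mb (nW ha' m)) m' using 1
        group
      inv_mem' := by
        rintro g ⟨a, ha, p, m⟩
        refine ⟨a, ha, p, ?_⟩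
        have := nW ha (inv_mem m)
        have e := inv_eq_of_mul_eq_one_right p.sq
        convert this using 1
        rw [mul_inv_rev, inv_inv, mul_assoc, mul_assoc, p.sq, mul_one] }
  have memQ : ∀ {g}, g ∈ Q ↔ ∃ a ∈ F.X, WT F a ∧ a⁻¹ * g ∈ F.W := Iff.rfl
  have WX : ∀ {u}, u ∈ F.W → u ∈ F.X := fun hu => F.V_le_X (F.W_le_V hu)
  have WQ : F.W ≤ Q := fun w hw => memQ.2 ⟨1, one_mem _, one', by simpa using hw⟩
  have TQ : ∀ {a}, a ∈ F.X → WT F a → a ∈ Q := fun ha p => memQ.2 ⟨_, ha, p, by simp [one_mem]⟩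
  have QX : Q ≤ F.X := fun g hg => by
    obtain ⟨a, ha, -, m⟩ := memQ.1 hg
    simpa using mul_mem ha (WX m)
  have QV : Q ⊓ F.V = F.W := by
    refine le_antisymm ?_ (le_inf WQ F.W_le_V)
    rintro g ⟨hg, hv⟩
    obtain ⟨a, ha, p, m⟩ := memQ.1 hg
    have aV : a ∈ F.V := by simpa using F.V.mul_mem hv (inv_mem (F.W_le_V m))
    simpa using mul_mem (p.mem_W aV) m
  have sup : ∀ g ∈ F.X, ∃ q ∈ Q, ∃ v ∈ F.V, g = q * v := fun g hg => by
    obtain ⟨i, hi, ig⟩ := Fr.mem_EE.1 hg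
    by_cases i0 : i = 0
    · subst i0
      exact ⟨1, one_mem _, g, ic_zero ig, (one_mul _).symm⟩
    obtain ⟨a, ia, p⟩ := ex_one hP i1 t1 hi i0
    obtain ⟨k, hk, rfl⟩ := ia.eq_mul ig
    refine ⟨a, TQ (mem_X hi ia) p, a⁻¹ * F.e k * a⁻¹⁻¹,
      (mem_normalizer_iff.1 (inv_mem ia.mem) _).1 (F.e_mem hk), by group⟩
  have cm : ∀ x ∈ Q, ∀ y ∈ Q, Eqv F.s (x * y * x⁻¹) y := by
    have c1 : ∀ a ∈ F.X, ∀ a' ∈ F.X, WT F a → WT F a' → Eqv F.s (a * a' * a⁻¹) a' := by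
      intro a ha a' ha' p p'
      obtain ⟨i, hi, ia⟩ := Fr.mem_EE.1 ha
      obtain ⟨j, hj, ja⟩ := Fr.mem_EE.1 ha'
      by_cases j0 : j = 0
      · subst j0
        exact F.eqv_XW ha (p'.mem_W (ic_zero ja))
      by_cases i0 : i = 0
      · subst i0
        have := eqv_coset (one_mem _) ha' (p.mem_W (ic_zero ia)) (one_mem _) (by simp)
        simpa using this
      exact eqv_P hP hS i1 i2 t1 t2 hc hi hj i0 j0 ia ja p p'
    intro x hx y hy
    obtain ⟨a, ha, p, m⟩ := memQ.1 hx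
    obtain ⟨a', ha', p', m'⟩ := memQ.1 hy
    have e1 := eqv_coset (one_mem _) ha' m m' (by simp)
    simp only [one_mul, mul_inv_cancel_left] at e1
    have e2 := e1.conj (s_comm ha)
    have e3 := (c1 a ha a' ha' p p').mul F.s_sq (F.eqv_XW ha m')
      (s_comm (mul_mem (mul_mem ha ha') (inv_mem ha)))
    rw [mul_inv_cancel_left] at e3
    have e4 : a * a' * a⁻¹ * (a * (a'⁻¹ * y) * a⁻¹) = a * y * a⁻¹ := by group
    rw [e4] at e3
    convert e2.trans F.s_sq e3 using 1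
    group
  refine ⟨Q, ⟨⟨WQ F.s_mem_W, F.s_ne, F.s_sq, fun q hq => s_comm (QX hq), fun x hx y hy => ?_,
    fun x hx h => ?_, ?_⟩, QX, QV, sup, fun y hy => ?_⟩, fun d hd w hw hX => TQ hX ⟨d, hd, w, hw, rfl⟩⟩
  · have := (cm x hx y hy).mul_right x
    rwa [inv_mul_cancel_right] at this
  · have xV := F.mem_V_of (QX hx) fun w hw => h w (WQ hw)
    refine F.cent_X xV fun g hg => ?_
    obtain ⟨q, hq, v, hv, rfl⟩ := sup g hg
    rw [mul_assoc, F.comm hv xV, ← mul_assoc, ← h q hq, mul_assoc]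
  · by_contra hn
    push Not at hn
    have x1 := mem_X (by norm_num) i1
    have := F.mem_V_of x1 fun w hw => hn _ (TQ x1 t1) w (WQ hw)
    exact absurd (((tabOK_spec okE).2 1 (by norm_num)).2.1 (i1.mem_V.1 this)) one_ne_zero
  · rw [← cj_eq_iff]
    refine cj_eq_of_le (cj_le_iff.2 fun g hg => ?_)
    obtain ⟨a, ha, p, m⟩ := memQ.1 hg
    refine memQ.2 ⟨y * a * y⁻¹, (mem_normalizer_iff.1 (F.Y_le_nX hy) _).1 ha, hP y hy a p, ?_⟩
    convert (mem_normalizer_iff.1 (F.Y_le_nW hy) _).1 m using 1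
    group

end Cfsg.Agent.R24
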