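import Mathlib
import Cfsg.Agent.R24.Loc

/-! The cocode case: the extraspecial group of order `2 ^ 13` in the normaliser of `V`. -/

set_option autoImplicit false

namespace Cfsg.Agent.R24

open Cfsg.Agent.Spor Cfsg.Agent.Inv.Fz Subgroup
open Cfsg.Agent.Spor.MB hiding cj
open scoped Pointwise

namespace QB

/-- Two elements of the sextet stabiliser for each element of the sextet group. -/
def tp (i : ℕ) : ℕ := getP 120 (nat_lit 0xffffffffffffffffffffffffffffff) (nat_lit 0x731f048ab269d77012c1a2a683162373007125b2ac17479a6ab86c82162370a8849261956f68316d53ce03162372d427d60c0da463dc13a25a82162370555a4ad73344b61e684be002162314926a46cb9b58571ea37aa0825c2072c29034ec54e44851f6b8aa831623131eea40f22cd6d20e36526a835c2073d8045ab4b9d4d8044492e693162373c52bd6d4435479ad8600609216237057043cf724c4a4d9b464aa031623751939060aad9e0b9cc25a1a9216237505002e6ab55f24348c0dce9316230bd64616748554e8b6c3920e930ae070914619a17c2e7aa5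535cac0216230aa5161daf7429530cb342ec920ae081eee0b1538bea89146b00a864b6c4b9d8e941f32d2b668e245a1464844069c0f0b973a32a38a92515e4645a04b9d567965382eae891a3a258640440396814cace0362c45c4b53e0325666b957543ece3362a49e7464a0320440b30692dcf2a4d6103d428baa8341a4bb0768a67285574791aa714e830440a1ca01b2d3136a895c2b7460623d49a2db7854ac0ba4798046b12281bd4959e2f1ddb3a42a1029222bac6249885d1a7804aaab9f711a60b12291c988aac4a03a0ca5a438a5e50dda824ce6ad04c058aa5b9e46a2500de291cce66850a60eb779c51751255ca6035a0468548a18b7938533b1754be201da048de874c9a2340285ceac53ec0238a30ae877c5ac9c2432d4ce4aac820ae08852c512b791c4db2d10a3e60338a38b1f7a56d20b5733004752608238a38b014bb6725557623d30088e8338a30ca835426b2d5966c5c47a4e830ae08c924a08eb6cd81bda007aaa8338a38c846ba60bad98aa4cef005a8238a3b4c25031f58d0eb40dd2b89464c1a414e435c2952a8e4b45cd621e64dc206c8af8de6ba55820a9201b8e835a0414a24726ab81d8aa36cf1966835c2084c2a13995a48e51a5f105d66436c414de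4a1575830e3736d15264645c209950a6020e7da22bd1215c9a321ea61152c51a0e95a333ad15a3da325c20928f13060f1da97115c09d5a92316894d30a09d56c4e0092d77a8a61b168aa805bb2cf8b68890dcb08a0924ce6ab010ba9d26c569792d4088a81cce6a326238db20c16e2dc11356c823d49a4d00959d5bc4f02044d62ca61bd49b06854c8f71cc4c43a2b53ea0341a4b05955bdd73445451e69448a01c1a48858959a177d8533aa95449a0238a3bbd8341e1475953a962692da9204408d101958eabcde46881062ea9338a38d2eb055aa441e63b253106c9238a38a80d0aeafb1e8c9120815e69338a3bd18d916aa81de3758915a269304408dd1663e6225434536095c8e0338a38aa47586cfab68201a7762209238a3b544903a47a2e712bd430dd86441a40d68d5158784a711d88e7a56640ae082e2a1deaca1e40125e12ba68336c40adcd1a4ec84e4f55894896a830ae0ac542a4a05059c8586ec4bda324ce60c5935be05359c9a54ea449a320ae06d403bb2878aa725b8a8089e64da040d571641472be6d238769228648ae02dd6a41ac27b4359d12764a00245c31510591eca735e69c47562e0925c202898d5bea121ee9a42ca44a60345c32bd66605b4ac15714ce0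922c9245c32aa4265a6fbd6902002d42ce9345c32a80c1560f45a9334967b85a9245c32bc2412cf4b4d48641b205ea9345c312a56594ef84e91191ae622a935c203bee30b1b48c14b438b200ac9256663cae40aa2b695944da0f009c81d666548f730e0b0d991700459d5a8251e95564165a27b966d8080442dc61d1e9954a98dec7a366013d411ba062316893ed368634a954201cd7811c91b168b096940e617d6ee2aa91648e0341a4b092b51a21916e7aa193a3dc01c1a42ae9678a6c6d6400c0974a8e8345c32aef3026ccab64f51cd410608245c32893354a0135aec454eba3da0245c3bb1f54c6129d96e198e5a29a8204402caef0b6ab51d90b268400a68345c3bad517c2ac29e44b386da2668304402dd4ba10e294c306a1964bea0345c32ca80555ab0c18798ae67a6c8245c38ae1722aac11e4fa0409b3668338a38d548a020795a62bb1614bda6238a388aab3bec1936ea4a19499a00238a314ca873ed5934e9a316a88e0625c208be126de745d5420b100258e9338a389d7743db3042a9a082a64ac6238a389e1420a5352ea1bbd20b3586438a3156ce226472ae6aa0e2f6c18645c202d1ac25eaa59de01224185a69345c32cd0263e15058ea486f45c9a6245c3284e89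bdb79405453169a9ac0245c30d5cc8bda79426a4ad1428ec620ae02cc8fb0975530e00a69783646445c309c836a5732b2af545d4b424640ae02b081b28f214d69782f4836a8345c329e8c482d3936a112d1753e06245c374ac082a6b155944dc2f234e83162374d2b501b5940f70a182a3ec6216237288885cef5ce81049826daa931623755815bec70367455c4944a0621623756c98098754a77051e12356641623bcdb1b25952c8f47b86a241664044075e6cabe0295829a2d0a399a021623b9e2b2be1395ab45218970da6204408d50a610277de6db51305c846038a38c28b4983695db33a19553c44038a32cd4da483525ce85c2cc4bc46045c32b57343c3035ed4554e964844045c389d3654853206ab63608a3ee6038a38d9875bc4d3060a4ceb444ae4038a3000000000000000000000000000000000000000000000000000000000000) i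

theorem chk1 {i : ℕ} (hi : i < 64) :
    (∃ j < 24, ap (eS i) j = j) ∨ ∀ a < 2048, ac false (eS i) a = a → a &&& 960 = 0 := by
  have h : allLt 64 (fun i => Spor.force (eS i) fun c => bor (!allLt 24 fun j => !Nat.beq (ap c j) j)
      (Spor.force (mx false c) fun M => allRange 0 2048 fun a =>
        bor (Nat.beq (Nat.land a 960) 0) (!Nat.beq (apm M a) a))) = true := by decide +kernel
  have h1 := (allLt_iff _ _).1 h i hi
  rw [feq, bor_iff, feq] at h1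
  refine h1.imp (fun h2 => ?_) fun h2 a ha e => ?_
  · by_contra n
    rw [Bool.not_eq_true', ← Bool.not_eq_true, allLt_iff] at h2
    refine h2 fun j hj => ?_
    rw [Bool.not_eq_true', ← Bool.not_eq_true, nbeq_iff]
    exact fun e => n ⟨j, hj, e⟩
  · have h3 := allRange_zero h2 a ha
    rw [bor_iff, ac_def, e, Nat.beq_refl, nbeq_iff] at h3
    exact h3.resolve_right (by decide)

theorem chk2 {i : ℕ} (hi : i < 64) : mul (mul (eS i) (MB.cj cw (eS i))) (MB.cj cw (MB.cj cw (eS i))) = idc := by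
  have h : allLt 64 (fun i => Spor.force (eS i) fun c => Spor.force (MB.cj cw c) fun d =>
      Spor.force (MB.cj cw d) fun e => Spor.force (mul c d) fun f => Nat.beq (mul f e) idc) = true := by
    decide +kernel
  have h1 := (allLt_iff _ _).1 h i hi
  rwa [feq, feq, feq, feq, nbeq_iff] at h1

theorem chk3 {a : ℕ} (ha : a < 2048) : (ac false cw a ^^^ a) &&& 960 = 0 := by
  have h : (Spor.force (mx false cw) fun M => allRange 0 2048 fun a =>
      Nat.beq (Nat.land (Nat.xor (apm M a) a) 960) 0) = true := by decide +kernel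
  rw [feq] at h
  have h1 := allRange_zero h a ha
  rwa [ac_def, nbeq_iff] at h1

theorem chk4 : ∀ c ∈ gS0, inM24 c = true ∧ ac false c 1024 = 1024 ∧
    ∃ i < 64, mul (MB.cj (inv c) cw) cw = eS i := by
  intro c hc
  simp only [gS0, List.mem_cons, List.not_mem_nil, or_false] at hc
  rcases hc with rfl | rfl
  · exact ⟨by decide +kernel, by decide +kernel, 22, by decide, by decide +kernel⟩
  · exact ⟨by decide +kernel, by decide +kernel, 43, by decide, by decide +kernel⟩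

/-- The test on one entry of the table. -/
noncomputable def okP (c p : ℕ) : Bool :=
  band (inM24 p) (band (Nat.beq (ac false p 1024) 1024) (Nat.beq (MB.cj p c) c))

theorem chk5 {i : ℕ} (hi : i < 64) (h0 : i ≠ 0) : ∃ p q, okP (eS i) p = true ∧ okP (eS i) q = true ∧
    ∀ a < 2048, a &&& 960 = 0 → (ac false p a ^^^ a) &&& 1023 = 0 → (ac false q a ^^^ a) &&& 1023 = 0 →
      a &&& 1023 = 0 := by
  have h : allLt 64 (fun i => bor (Nat.beq i 0) (Spor.force (eS i) fun c => Spor.force (tp (Nat.mul 2 i)) fun p =>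
      Spor.force (tp (Nat.succ (Nat.mul 2 i))) fun q => band (okP c p) (band (okP c q)
      (Spor.force (mx false p) fun M => Spor.force (mx false q) fun M' => allRange 0 2048 fun a =>
        bor (!Nat.beq (Nat.land a 960) 0) (bor (Nat.beq (Nat.land a 1023) 0)
          (bor (!Nat.beq (Nat.land (Nat.xor (apm M a) a) 1023) 0)
            (!Nat.beq (Nat.land (Nat.xor (apm M' a) a) 1023) 0))))))) = true := by decide +kernel
  have h1 := (allLt_iff _ _).1 h i hi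
  rw [bor_iff, nbeq_iff, or_iff_right h0, feq, feq, feq, band_iff, band_iff, feq, feq] at h1
  refine ⟨_, _, h1.1, h1.2.1, fun a ha e1 e2 e3 => ?_⟩
  have h2 := allRange_zero h1.2.2 a ha
  rw [bor_iff, bor_iff, bor_iff, ac_def, ac_def, nbeq_iff] at h2
  have k : ∀ n : ℕ, n = 0 → ¬ ((!Nat.beq n 0) = true) := by rintro _ rfl; decide
  exact ((h2.resolve_left (k _ e1)).resolve_right fun h3 => h3.elim (k _ e2) (k _ e3))

universe u

/-- A map onto the elementary abelian quotient. -/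
theorem exists_b {G : Type u} [Group G] {X W : Subgroup G} (hn : X ≤ normalizer (W : Set G))
    (hsq : ∀ g ∈ X, g * g ∈ W) : ∃ (A : Type u) (_ : CommGroup A) (b : G → A), (∀ g ∈ X, ∀ h ∈ X, b (g * h) = b g * b h) ∧
      ∀ g ∈ X, b g = 1 ↔ g ∈ W := by
  classical
  haveI : (W.subgroupOf X).Normal := ⟨fun w hw g => (mem_normalizer_iff.1 (hn g.2) w).1 hw⟩
  have h2 : ∀ a : X ⧸ W.subgroupOf X, a * a = 1 := fun a => by
    obtain ⟨g, rfl⟩ := QuotientGroup.mk_surjective a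
    exact (QuotientGroup.eq_one_iff _).2 (hsq g g.2)
  have h3 : ∀ a : X ⧸ W.subgroupOf X, a⁻¹ = a := fun a => inv_eq_of_mul_eq_one_left (h2 a)
  refine ⟨X ⧸ W.subgroupOf X, { (inferInstance : Group (X ⧸ W.subgroupOf X)) with
    mul_comm := fun a b => by rw [← h3 (a * b), mul_inv_rev, h3, h3] },
    fun g => if h : g ∈ X then ((⟨g, h⟩ : X) : X ⧸ W.subgroupOf X) else 1, fun g hg h hh => ?_, fun g hg => ?_⟩
  · simp only [dif_pos hg, dif_pos hh, dif_pos (mul_mem hg hh)]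
    rfl
  · simp only [dif_pos hg]
    exact QuotientGroup.eq_one_iff _

variable {G : Type*} [Group G] [Finite G] (F : Fr false G) {g h x y q : G}

theorem X_le_Y : F.X ≤ F.Y := F.X_le_T.trans F.T_le_Y

theorem sq_mem_W (hg : g ∈ F.X) : g * g ∈ F.W := by
  obtain ⟨i, hi, h1⟩ := Fr.mem_ES.1 hg
  by_cases h0 : i = 0
  · rw [h0, (tabOK_spec okS).1, Fr.ic_idc] at h1
    rw [F.sq g h1]; exact one_mem _
  obtain ⟨p, hp, e⟩ := h1.perm
  have hp2 : p * p = 1 := sq_tabG (h := okS) ⟨i, hi, e⟩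
  rcases chk1 hi with ⟨j, hj, h2⟩ | h2
  · have hp1 : p ≠ 1 := fun e' => h0 (((tabOK_spec okS).2 i hi).2.1 (by rw [← e, e', code_one]))
    obtain ⟨k, h3, h4⟩ := F.lift_inv hp (orderOf_eq_prime (by rw [pow_two, hp2]) hp1)
      (Finset.card_ne_zero.2 ⟨pt j, mem_fixSet.2 (by rw [apply_pt p hj, e, h2])⟩)
    obtain ⟨a, ha, rfl⟩ := h3.eq_mul (e ▸ h1)
    have h5 := F.comm_XV (Fr.mem_ES.2 ⟨i, hi, e ▸ h3⟩) (F.e_mem ha)
    have h6 := (mem_normalizer_iff.1 (F.Y_le_nW (X_le_Y F (F.V_le_X (F.e_mem ha)))) _).1 h5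
    convert h6 using 1
    rw [inv_eq_of_mul_eq_one_left h4, F.e_inv ha]
    simp only [mul_assoc, F.e_sq ha, mul_one]
  · have h3 : F.Ic (g * g) idc := (h1.mul h1).of_eq (by rw [← e, ← code_mul, hp2, code_one])
    obtain ⟨a, ha, e'⟩ := (F.mem _).1 (Fr.ic_idc.1 h3)
    rw [← e']
    exact (F.e_mem_sub ha).2 (h2 a ha ((h1.comm_iff ha).1 (by rw [e', mul_assoc])))

theorem mem_Y (hx : F.Ic x cw) : x ∈ F.Y := hx.mem_Y.2 (by decide +kernel)

theorem cj_X (hy : y ∈ F.Y) (hg : g ∈ F.X) : y * g * y⁻¹ ∈ F.X := (mem_normalizer_iff.1 (F.Y_le_nX hy) _).1 hg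
theorem cj_W (hy : y ∈ F.Y) (hg : g ∈ F.W) : y * g * y⁻¹ ∈ F.W := (mem_normalizer_iff.1 (F.Y_le_nW hy) _).1 hg

/-- The product of the three conjugates. -/
def ph (x g : G) : G := g * (x * g * x⁻¹) * (x * (x * g * x⁻¹) * x⁻¹)

theorem ph_X (hx : x ∈ F.Y) (hg : g ∈ F.X) : ph x g ∈ F.X :=
  mul_mem (mul_mem hg (cj_X F hx hg)) (cj_X F hx (cj_X F hx hg))

theorem ph_V (hx : F.Ic x cw) (hg : g ∈ F.X) : ph x g ∈ F.V := by
  obtain ⟨i, hi, h1⟩ := Fr.mem_ES.1 hg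
  exact Fr.ic_idc.1 (((h1.mul (hx.conj h1)).mul (hx.conj (hx.conj h1))).of_eq (chk2 hi))

section
variable {F} {A : Type*} [CommGroup A] {b : G → A} (hm : ∀ g ∈ F.X, ∀ h ∈ F.X, b (g * h) = b g * b h)
  (h1 : ∀ g ∈ F.X, b g = 1 ↔ g ∈ F.W)
include hm h1

theorem b_sq (hg : g ∈ F.X) : b g * b g = 1 := by
  rw [← hm g hg g hg, h1 _ (mul_mem hg hg)]; exact sq_mem_W F hg

theorem b_inv (hg : g ∈ F.X) : b g⁻¹ = b g := by
  refine mul_left_cancel (a := b g) ?_
  rw [← hm g hg _ (inv_mem hg), b_sq hm h1 hg, mul_inv_cancel, h1 _ (one_mem _)]; exact one_mem _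

theorem b_eq (hg : g ∈ F.X) (hh : h ∈ F.X) : b g = b h ↔ g * h⁻¹ ∈ F.W := by
  rw [← h1 _ (mul_mem hg (inv_mem hh)), hm g hg _ (inv_mem hh), b_inv hm h1 hh]
  refine ⟨fun e => by rw [e, b_sq hm h1 hh], fun e => mul_right_cancel (b := b h) ?_⟩
  rw [e, b_sq hm h1 hh]

theorem b_cjX (hg : g ∈ F.X) (hh : h ∈ F.X) : b (g * h * g⁻¹) = b h := by
  rw [hm _ (mul_mem hg hh) _ (inv_mem hg), hm g hg h hh, b_inv hm h1 hg, mul_right_comm, b_sq hm h1 hg, one_mul]

theorem b_cj (hy : y ∈ F.Y) (hg : g ∈ F.X) (hh : h ∈ F.X) (e : b g = b h) :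
    b (y * g * y⁻¹) = b (y * h * y⁻¹) := by
  rw [b_eq hm h1 (cj_X F hy hg) (cj_X F hy hh)]
  convert cj_W F hy ((b_eq hm h1 hg hh).1 e) using 1
  group

omit h1 in
theorem b_ph (hx : x ∈ F.Y) (hg : g ∈ F.X) :
    b (ph x g) = b g * b (x * g * x⁻¹) * b (x * (x * g * x⁻¹) * x⁻¹) := by
  rw [ph, hm _ (mul_mem hg (cj_X F hx hg)) _ (cj_X F hx (cj_X F hx hg)), hm _ hg _ (cj_X F hx hg)]

omit h1 in
theorem b_ph_mul (hx : x ∈ F.Y) (hg : g ∈ F.X) (hh : h ∈ F.X) : b (ph x (g * h)) = b (ph x g) * b (ph x h) := by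
  have e : ∀ g h : G, x * (g * h) * x⁻¹ = x * g * x⁻¹ * (x * h * x⁻¹) := fun g h => by group
  rw [b_ph hm hx hg, b_ph hm hx hh, b_ph hm hx (mul_mem hg hh), e, e, hm _ hg _ hh,
    hm _ (cj_X F hx hg) _ (cj_X F hx hh), hm _ (cj_X F hx (cj_X F hx hg)) _ (cj_X F hx (cj_X F hx hh))]
  ac_rfl

theorem b_ph_V (hx : F.Ic x cw) (hg : g ∈ F.V) : b (ph x g) = b g := by
  have k : ∀ v ∈ F.V, b (x * v * x⁻¹) = b v := fun v hv => by
    obtain ⟨a, ha, rfl⟩ := (F.mem v).1 hv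
    rw [b_eq hm h1 (cj_X F (mem_Y F hx) (F.V_le_X hv)) (F.V_le_X hv), hx.comm_e ha]
    exact (F.e_mem_sub (xor_lt (ac_lt _ _ _) ha)).2 (chk3 ha)
  rw [b_ph hm (mem_Y F hx) (F.V_le_X hg), k _ ((mem_normalizer_iff.1 hx.mem _).1 hg), k g hg,
    b_sq hm h1 (F.V_le_X hg), one_mul]

/-- An element that inverts `x` modulo `X`. -/
theorem b_ph_inv (hx : x ∈ F.Y) (h3 : x ^ 3 = 1) (hy : y ∈ F.Y) (hu : y * x ∈ F.X) (hg : g ∈ F.X) :
    b (ph y g) = b (ph x g) := by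
  have e3 : x⁻¹ = x * x := inv_eq_of_mul_eq_one_left (by rw [← h3, pow_succ, pow_two])
  have k : ∀ g ∈ F.X, b (y * g * y⁻¹) = b (x⁻¹ * g * x⁻¹⁻¹) := fun g hg => by
    rw [← b_cjX hm h1 hu (cj_X F (inv_mem hx) hg)]
    congr 1; group
  have e1 : x⁻¹ * g * x⁻¹⁻¹ = x * (x * g * x⁻¹) * x⁻¹ :=
    (congrArg (fun z => z * g * z⁻¹) e3).trans (by group)
  have e2 : x⁻¹ * (x * (x * g * x⁻¹) * x⁻¹) * x⁻¹⁻¹ = x * g * x⁻¹ := by group
  rw [b_ph hm hy hg, b_ph hm hx hg, k _ (cj_X F hy hg),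
    b_cj hm h1 (inv_mem hx) (cj_X F hy hg) (cj_X F (inv_mem hx) hg) (k g hg), k g hg, e1, e2, mul_right_comm]

end

variable {F}

theorem exists_Q (hx : F.Ic x cw) (h3 : x ^ 3 = 1) : ∃ Q : Subgroup G, Q ≤ F.X ∧ Q ⊓ F.V = F.W ∧
    (∀ g ∈ F.X, ∃ q ∈ Q, ∃ v ∈ F.V, g = q * v) ∧ F.Y ≤ normalizer (Q : Set G) := by
  obtain ⟨A, _, b, hm, h1⟩ := exists_b ((X_le_Y F).trans F.Y_le_nW) fun g hg => sq_mem_W F hg
  have hxY := mem_Y F hx
  have hone : b (ph x 1) = 1 := by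
    rw [b_ph_V hm h1 hx (one_mem _), h1 _ (one_mem _)]; exact one_mem _
  let Q : Subgroup G :=
    { carrier := {g | g ∈ F.X ∧ b (ph x g) = 1}
      one_mem' := ⟨one_mem _, hone⟩
      mul_mem' := fun ha hb => ⟨mul_mem ha.1 hb.1, by rw [b_ph_mul hm hxY ha.1 hb.1, ha.2, hb.2, one_mul]⟩
      inv_mem' := fun {a} ha => ⟨inv_mem ha.1, by
        have := b_ph_mul hm hxY ha.1 (inv_mem ha.1)
        rwa [mul_inv_cancel, hone, ha.2, one_mul, eq_comm] at this⟩ }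
  have hQ : ∀ g, g ∈ Q ↔ g ∈ F.X ∧ b (ph x g) = 1 := fun _ => Iff.rfl
  have hinf : Q ⊓ F.V = F.W := Subgroup.ext fun g => ⟨fun ⟨h2, h4⟩ => by
      rw [← h1 _ h2.1, ← b_ph_V hm h1 hx h4]; exact h2.2,
    fun h2 => ⟨⟨F.V_le_X (F.W_le_V h2), by
      rw [b_ph_V hm h1 hx (F.W_le_V h2), h1 _ (F.V_le_X (F.W_le_V h2))]; exact h2⟩, F.W_le_V h2⟩⟩
  have hX : F.X ≤ normalizer (Q : Set G) := fun g hg => mem_normalizer_of_conj_mem fun q hq => by
    have h2 : g * q * g⁻¹ * q⁻¹ ∈ Q := (hinf.ge ((b_eq hm h1 (cj_X F (X_le_Y F hg) hq.1) hq.1).1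
      (b_cjX hm h1 hg hq.1))).1
    simpa using mul_mem h2 hq
  refine ⟨Q, fun _ h => h.1, hinf, fun g hg => ?_, fun y hy => ?_⟩
  · have hv := ph_V F hx hg
    refine ⟨g * ph x g, ⟨mul_mem hg (F.V_le_X hv), ?_⟩, _, hv, by rw [mul_assoc, F.sq _ hv, mul_one]⟩
    rw [b_ph_mul hm hxY hg (F.V_le_X hv), b_ph_V hm h1 hx hv, b_sq hm h1 (F.V_le_X hv)]
  · have hK : SY false ≤ ((normalizer (Q : Set G)).subgroupOf F.N).map F.σ := le_SY (t := false) fun c hc => by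
      obtain ⟨h2, h4, i, hi, h5⟩ := chk4 c hc
      obtain ⟨k, hk⟩ := F.lift h2
      have hkY := hk.mem_Y.2 h4
      refine ⟨_, ⟨⟨k, hk.1⟩, mem_normalizer_of_conj_mem fun q hq => ⟨cj_X F hkY hq.1, ?_⟩, rfl⟩, hk.2⟩
      have h6 := b_ph_inv hm h1 hxY h3 (mul_mem (mul_mem (inv_mem hkY) hxY) (inv_mem (inv_mem hkY)))
        (Fr.mem_ES.2 ⟨i, hi, ((hk.inv.conj hx).mul hx).of_eq h5⟩) hq.1
      rw [hq.2, h1 _ (ph_X F (mul_mem (mul_mem (inv_mem hkY) hxY) (inv_mem (inv_mem hkY))) hq.1)] at h6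
      refine (h1 _ (ph_X F hxY (cj_X F hkY hq.1))).2 ?_
      convert cj_W F hkY h6 using 1
      simp only [ph]; group
    rw [F.Y_eq] at hy
    obtain ⟨p, hp, h2⟩ := Fr.mem_pre.1 hy
    obtain ⟨k, hk, rfl⟩ := hK hp
    obtain ⟨a, ha, rfl⟩ := Fr.Ic.eq_mul (F := F) ⟨k.2, rfl⟩ h2
    exact mul_mem (hX (F.V_le_X (F.e_mem ha))) hk

theorem sq_s {Q : Subgroup G} (hle : Q ≤ F.X) (hinf : Q ⊓ F.V = F.W) (hn : F.Y ≤ normalizer (Q : Set G))
    (hq : q ∈ Q) : q * q = 1 ∨ q * q = F.s := by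
  obtain ⟨i, hi, h1⟩ := Fr.mem_ES.1 (hle hq)
  by_cases h0 : i = 0
  · rw [h0, (tabOK_spec okS).1, Fr.ic_idc] at h1
    exact .inl (F.sq q h1)
  obtain ⟨a, ha, h2, e⟩ := F.mem_sub.1 (sq_mem_W F (hle hq))
  have k : ∀ p, okP (eS i) p = true → (ac false p a ^^^ a) &&& 1023 = 0 := fun p hp => by
    rw [okP, band_iff, band_iff, nbeq_iff, nbeq_iff] at hp
    obtain ⟨y, hy⟩ := F.lift hp.1
    obtain ⟨c, hc, e'⟩ := h1.eq_mul ((hy.conj h1).of_eq hp.2.2)
    have hw : F.e c ∈ F.W := hinf.le (mem_inf.2 ⟨by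
      rw [← mul_inv_eq_iff_eq_mul.2 e']
      exact mul_mem ((mem_normalizer_iff.1 (hn (hy.mem_Y.2 hp.2.1)) q).1 hq) (inv_mem hq), F.e_mem hc⟩)
    have h3 : F.e (ac false p a) = F.e c * (q * F.e c * q⁻¹) * F.e a := by
      rw [← hy.conj_e ha, e]
      calc y * (q * q) * y⁻¹ = y * q * y⁻¹ * (y * q * y⁻¹) := by group
        _ = _ := by rw [e']; group
    rw [← F.eqv_iff (ac_lt _ _ _) ha, h3]
    have h4 := ((F.eqv_XW (hle hq) hw).mul_left (F.comm F.s_mem (F.e_mem hc))).mul_right (F.e a)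
    rwa [F.e_sq hc, one_mul] at h4
  obtain ⟨p, p', h3, h4, h5⟩ := chk5 hi h0
  rw [← e]
  exact F.mem_sub_s.1 ((F.e_mem_sub ha).2 (h5 a ha h2 (k p h3) (k p' h4)))

end QB

variable {G : Type*} [Group G] [Finite G]

theorem exists_oq (F : Fr false G) : ∃ Q x, Oq F Q x := by
  obtain ⟨x0, h0⟩ := F.lift in_cw
  have h1 : x0 ^ 3 ∈ F.V := Fr.ic_idc.1 ((h0.pow 3).of_eq (by decide +kernel))
  have hx : F.Ic (x0 ^ 3 * x0) cw := h0.V_mul h1
  have h3 : (x0 ^ 3 * x0) ^ 3 = 1 := by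
    have := F.sq _ h1
    calc (x0 ^ 3 * x0) ^ 3 = x0 ^ 3 * x0 ^ 3 * (x0 ^ 3 * x0 ^ 3) := by group
      _ = 1 := by rw [this, one_mul]
  obtain ⟨Q, hle, hinf, hsup, hn⟩ := QB.exists_Q hx h3
  have hW : F.W ≤ Q := hinf ▸ inf_le_left
  have hs : ∀ q ∈ Q, F.s * q = q * F.s := fun q hq => F.mem_C.1 (QB.X_le_Y F (hle hq)).1
  have hc : ∀ x ∈ Q, (∀ q ∈ Q, x * q = q * x) → x = 1 ∨ x = F.s := fun x hx h => by
    have hv := F.mem_V_of (hle hx) fun w hw => h w (hW hw)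
    refine F.cent_X hv fun g hg => ?_
    obtain ⟨q, hq, v, hv', rfl⟩ := hsup g hg
    rw [mul_assoc, F.comm hv' hv, ← mul_assoc, ← h q hq, mul_assoc]
  refine ⟨Q, _, ⟨⟨hW F.s_mem_W, F.s_ne, F.s_sq, hs, fun x hx y hy => ?_, hc, ?_⟩, hle, hinf, hsup, hn⟩, hx, h3⟩
  · have k : ∀ q ∈ Q, Eqv F.s q⁻¹ q := fun q hq => (QB.sq_s hle hinf hn hq).imp inv_eq_of_mul_eq_one_left fun e =>
      inv_eq_of_mul_eq_one_left (by rw [mul_assoc, e, F.s_sq])
    have h4 := (k _ (mul_mem hx hy)).symm F.s_sq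
    rw [mul_inv_rev] at h4
    exact h4.trans F.s_sq ((k y hy).mul F.s_sq (k x hx) (hs _ (inv_mem hy)))
  · by_contra n
    push Not at n
    have h4 : F.e 1 ∈ Q := hW ((F.e_mem_sub (by decide)).2 (by decide))
    rcases hc _ h4 (n _ h4) with e | e
    · exact absurd (F.inj _ (by decide) e) (by decide)
    · exact absurd (F.e_inj (by decide) (by decide) e) (by decide)

end Cfsg.Agent.R24
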